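import Cfsg.Agent.H619.R4.SporBase
import Cfsg.Agent.H619.R4.RankTab
import Cfsg.Agent.H661.SporFi22
import Cfsg.Agent.R08.AutT
import Cfsg.Agent.R01.Component
import Cfsg.Agent.S2079

/-!
# The row `Fi22` of S4554 (helper579)

Every group between `Fi22` and `Aut Fi22` has rank three on the 3510 transpositions: real irreducible degrees `429` and
`3080`; the elements of order `7` are real.
-/

set_option autoImplicit false

open Cfsg

namespace Cfsg.Agent.H579.R4.FiTT

open Cfsg.Agent.H619.R4 Cfsg.Agent.H690.Spor Cfsg.Agent.R01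
open Cfsg.Agent.H722.RealP (HasReal)
open Cfsg.Agent.Fischer.Fi22PtsRep (gen)

universe u

/-- different commuting transpositions -/
def Rel (x y : Fi22Facts.T) : Prop := x ≠ y ∧ Commute (x : Spor.Fi22) y

/-- The automorphisms act on the transpositions. -/
abbrev actT {G : Type*} [Group G] (ρ : G →* MulAut Spor.Fi22) : MulAction G Fi22Facts.T where
  smul g t := ⟨ρ g t, R08.AutT.aut_mem (ρ g) t.2⟩
  one_smul t := Subtype.ext (by
    show ρ 1 (t : Spor.Fi22) = t
    rw [map_one]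
    rfl)
  mul_smul a b t := Subtype.ext (by
    show ρ (a * b) (t : Spor.Fi22) = ρ a (ρ b t)
    rw [map_mul]
    rfl)

theorem rank3 {G : Type*} [Group G] (ρ : G →* MulAut Spor.Fi22) (hρ : ∀ s : Spor.Fi22, ∃ g : G, ρ g = MulAut.conj s) :
    @RankThree.R3 G Fi22Facts.T _ (actT ρ) Rel 693 2816 := by
  letI := actT ρ
  have hs : ∀ (g : G) (t : Fi22Facts.T), ((g • t : Fi22Facts.T) : Spor.Fi22) = ρ g t := fun _ _ => rfl
  have key : ∀ (s : Spor.Fi22), ∃ g : G, ∀ t t' : Fi22Facts.T, s * t * s⁻¹ = t' → g • t = t' := by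
    intro s
    obtain ⟨g, hg⟩ := hρ s
    refine ⟨g, fun t t' h => Subtype.ext ?_⟩
    rw [hs, hg]
    exact h
  refine ⟨⟨fun x y => ?_⟩, ?_, ?_, ?_, ?_, ?_, ?_, by norm_num, by norm_num, ?_⟩
  · have h1 : IsConj (gen .a) (x : Spor.Fi22) := x.2
    have h2 : IsConj (gen .a) (y : Spor.Fi22) := y.2
    obtain ⟨s, hs⟩ := isConj_iff.1 (h1.symm.trans h2)
    obtain ⟨g, hg⟩ := key s
    exact ⟨g, hg _ _ hs⟩
  · rintro x y ⟨h1, h2⟩
    exact ⟨h1.symm, h2.symm⟩
  · rintro x ⟨h1, -⟩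
    exact h1 rfl
  · rintro g x y ⟨h1, h2⟩
    refine ⟨fun h => h1 (Subtype.ext ((ρ g).injective (congrArg Subtype.val h))), ?_⟩
    rw [hs, hs]
    exact h2.map (ρ g).toMonoidHom
  · rintro x y x' y' ⟨h1, h2⟩ ⟨h3, h4⟩
    obtain ⟨s, hs1, hs2⟩ := Fi22Facts.trans_commuting _ x.2 _ y.2 _ x'.2 _ y'.2 (fun h => h1 (Subtype.ext h))
      (fun h => h3 (Subtype.ext h)) h2 h4
    obtain ⟨g, hg⟩ := key s
    exact ⟨g, hg _ _ hs1, hg _ _ hs2⟩
  · intro x y x' y' h1 h2 h3 h4
    obtain ⟨s, hs1, hs2⟩ := Fi22Facts.trans_noncommuting _ x.2 _ y.2 _ x'.2 _ y'.2 (fun h => h2 ⟨h1, h⟩)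
      (fun h => h4 ⟨h3, h⟩)
    obtain ⟨g, hg⟩ := key s
    exact ⟨g, hg _ _ hs1, hg _ _ hs2⟩
  · intro x
    rw [← Component.ncard_Nb Fischer.Unit22.hF (Component.labels_of_loc Fi22Facts.loc) x.2, ← Nat.card_coe_set_eq]
    refine Nat.card_congr ⟨fun y => ⟨y.1, y.1.2, fun h => y.2.1 (Subtype.ext h.symm), y.2.2.symm⟩,
      fun y => ⟨⟨y.1, y.2.1⟩, fun h => y.2.2.1 (congrArg Subtype.val h).symm, y.2.2.2.symm⟩, fun y => rfl, fun y => rfl⟩
  · rw [Nat.card_coe_set_eq, Fi22Facts.ncard_T]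

theorem rc {G : Type u} [Group G] [Finite G] (ρ : G →* MulAut Spor.Fi22)
    (hρ : ∀ s : Spor.Fi22, ∃ g : G, ρ g = MulAut.conj s) : RC G 429 ∧ RC G 3080 := by
  letI := actT ρ
  exact rc_fi22 (rank3 ρ hρ)

theorem card : Nat.card Spor.Fi22 = 64561751654400 := Fi22Facts.card

theorem idx : (MulAut.conj : Spor.Fi22 →* MulAut Spor.Fi22).range.index ≤ 2 := by
  have h : (MulAut.conj : Spor.Fi22 →* MulAut Spor.Fi22).range.index = 2 := Cfsg.Agent.S2079.result
  rw [h]

/-- **The row `Fi22`.** -/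
theorem row_fi22 {S : Type u} [Group S] [Finite S] [IsSimpleGroup S] (h : Spor.IsoFi22 S) : Row S := by
  obtain ⟨e⟩ := h
  have hcS : Nat.card S = 64561751654400 := by rw [Nat.card_congr e.toEquiv, card]
  have hidx : (MulAut.conj : S →* MulAut S).range.index ≤ 2 := by
    rw [index_congr e]
    exact idx
  have hreal : HasReal 7 S := (Cfsg.Agent.H661.Spor.Fi22.hasReal).map_equiv e.symm
  refine row_two hidx (fun G _ _ N _ f hN g => ?_) fun G _ _ N _ f hC hN => ?_
  · have hrc := rc ((MulAut.conj : Spor.Fi22 →* MulAut Spor.Fi22).comp (g.symm.trans e).toMonoidHom) (fun s =>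
      ⟨g (e.symm s), by
        show MulAut.conj (e (g.symm (g (e.symm s)))) = _
        rw [g.symm_apply_apply, e.apply_symm_apply]⟩)
    exact top_prime hN (p := 7) (by norm_num) (by norm_num) (by
      rw [← Nat.card_congr g.toEquiv, hcS]
      norm_num) (hreal.map_equiv g) hrc.2 (by norm_num)
  · have hc : ∀ a b : G, a * b * a⁻¹ * b⁻¹ ∈ N := comm_of_index (by rw [hN])
    have hrc := rc ((MulAut.congr (f.symm.trans e)).toMonoidHom.comp (MulAut.conjNormal : G →* MulAut N)) (fun s =>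
      ⟨(f (e.symm s) : N), by
        ext x
        show (f.symm.trans e) (MulAut.conjNormal ((f (e.symm s) : N) : G) ((f.symm.trans e).symm x)) = s * x * s⁻¹
        have h1 : MulAut.conjNormal ((f (e.symm s) : N) : G) ((f.symm.trans e).symm x) =
            f (e.symm s) * ((f.symm.trans e).symm x) * (f (e.symm s))⁻¹ := by
          ext
          rw [MulAut.conjNormal_apply]
          rfl
        rw [h1, map_mul, map_mul, map_inv, MulEquiv.apply_symm_apply]
        show e (f.symm (f (e.symm s))) * x * (e (f.symm (f (e.symm s))))⁻¹ = _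
        rw [f.symm_apply_apply, e.apply_symm_apply]⟩)
    have hcG : Nat.card G = 64561751654400 * 2 := by
      rw [← N.card_mul_index, hN, ← Nat.card_congr f.toEquiv, hcS]
    refine R3.of_even_prime hc (p := 7) (by norm_num) (by norm_num) (by rw [hcG]; norm_num)
      ((hreal.map_equiv f).of_subgroup) (hrc.2.rd hc (by norm_num)) (hrc.1.rd hc (by norm_num)) (by norm_num)
      (by decide) (by norm_num)

end Cfsg.Agent.H579.R4.FiTT

namespace Cfsg.Agent.H579.R4

universe u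

theorem row_fi22 {S : Type u} [Group S] [Finite S] [IsSimpleGroup S] (h : Spor.IsoFi22 S) : H619.R4.Row S :=
  FiTT.row_fi22 h

end Cfsg.Agent.H579.R4
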