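import Cfsg.Agent.H579.RR.SporPrime
import Cfsg.Agent.H619.R4.RankTab
import Cfsg.Agent.H642.MonoJTwo
import Cfsg.Agent.NotCT.Orders
import Cfsg.Agent.S1624
import Cfsg.Agent.S2066

/-!
# The row `J2` of S4554 (helper579)
-/

set_option autoImplicit false

open Cfsg

namespace Cfsg.Agent.H579.R4

open Cfsg.Agent.H619.R4 Cfsg.Agent.H690.Spor

universe u

/-- **The row `J2`** (`J2` and `J2.2`). -/
theorem row_j2 {S : Type u} [Group S] [Finite S] [IsSimpleGroup S] (h : Spor.IsoJ2 S) : H619.R4.Row S := by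
  obtain ⟨e⟩ := h
  have hc : Nat.card Spor.J2 = 604800 := Cfsg.Agent.NotCT.Orders.j2 (K := Spor.J2) ⟨MulEquiv.refl _⟩
  have : Finite Spor.J2 := Nat.finite_of_card_ne_zero (by rw [hc]; norm_num)
  have hp : Fact (Nat.Prime 7) := ⟨by norm_num⟩
  obtain ⟨H, hi, -, q₁, q₂, h1, h2⟩ := Cfsg.Agent.S1624.result
  obtain ⟨R, hR⟩ := RankThree.R3.of_index _ (by rw [hi]) h1 h2 (by norm_num) (by norm_num) (by norm_num)
  have hrc := rc_j2 hR
  obtain ⟨x, hx⟩ := Cfsg.Agent.H642.Mono.j2_seven
  have hxo : orderOf x = 7 := by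
    have h3 : orderOf x ∣ 7 := by
      rw [← hx, ← Subgroup.orderOf_mk x (Subgroup.mem_centralizer_singleton_iff.2 rfl)]
      exact orderOf_dvd_natCard _
    rcases (Nat.dvd_prime (by norm_num)).1 h3 with h4 | h4
    · exfalso
      rw [orderOf_eq_one_iff] at h4
      have h5 : Subgroup.centralizer ({x} : Set Spor.J2) = ⊤ := by
        rw [eq_top_iff]
        intro y _
        rw [Subgroup.mem_centralizer_singleton_iff, h4, mul_one, one_mul]
      rw [h5, Subgroup.card_top, hc] at hx
      norm_num at hx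
    · exact h4
  have hout : (MulAut.conj : Spor.J2 →* MulAut Spor.J2).range.index = 2 := Cfsg.Agent.S2066.result
  refine row_of_self e hc (by norm_num) (by norm_num) (by rw [hout]) (p := 7) (by norm_num) ?_ hxo hx (by norm_num)
    hrc.2 (by decide) (by norm_num)
  rw [show (604800 : ℕ) = 7 * 86400 by norm_num, Nat.factorization_mul (by norm_num) (by norm_num), Finsupp.add_apply,
    (by norm_num : Nat.Prime 7).factorization_self, Nat.factorization_eq_zero_of_not_dvd (by norm_num)]

end Cfsg.Agent.H579.R4
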