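import Cfsg.Agent.H579.RR.Psl2Stab
import Cfsg.Agent.H685.R4.Stein
import Cfsg.Agent.H979.LieSplit

/-!
# The groups with socle `PSL₂(q)` (S4554, helper579)

* `rd_lie` : the Steinberg character of a group with socle of Lie type;
* `row_psl2` : three real degrees.
-/

set_option autoImplicit false
set_option linter.unusedSectionVars false

namespace Cfsg.Agent.H579.RR

open Matrix Cfsg Cfsg.Agent.Characters Cfsg.Agent.H619.R4 Cfsg.Agent.H686.CharKit
open Cfsg.Agent.H672 (Over inertia over_iff over_comp_iff over_subtype_iff mem_inertia_iff le_inertia)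
open Cfsg.Agent.H597.L2Row Cfsg.Agent.H597.L2Cliff Cfsg.Agent.H597.L2Aut
open Cfsg.Agent.H984.SLTwo Cfsg.Agent.H597.L2Char
open Cfsg.Agent.Blocks.Basic (charDegree_of_eq irr_one_eq_charDegree charDegree_pos)
open scoped ComplexConjugate commutatorElement

universe u

/-- **The Steinberg character of a group with socle of Lie type.** -/
theorem rd_lie {G : Type u} [Group G] [Finite G] (N : Subgroup G) [N.Normal] [IsSimpleGroup N] {p : ℕ}
    (hp : p.Prime) (h : IsLieTypeChar p N) (hpN : p ∣ Nat.card N) : RD G N (p ^ (Nat.card N).factorization p) := by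
  have : Fact p.Prime := ⟨hp⟩
  exact H685.R4.rd_steinberg N (H979.LieSplit.hasSplit_of_isLieTypeChar hp h) hpN

section

variable {F : Type} [Field F] [Fintype F]

local notation "PSL" => Matrix.ProjectiveSpecialLinearGroup (Fin 2) F
local notation "SL" => Matrix.SpecialLinearGroup (Fin 2) F

theorem fact_psl {p : ℕ} [hpp : Fact p.Prime] [hp : CharP F p] :
    p ^ (Nat.card PSL).factorization p = Fintype.card F := by
  obtain ⟨n, -, hn⟩ := FiniteField.card F p
  have h1 := Cfsg.Agent.ClassicalGeometry.PSL2Basic.card_PSL2_gcd (F := F)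
  have hpq : p ∣ Fintype.card F := by
    rw [hn]; exact dvd_pow_self p n.ne_zero
  have hcop1 : ¬ p ∣ Fintype.card F ^ 2 - 1 := by
    intro h
    have h2 : p ∣ Fintype.card F ^ 2 := (hpq.trans (dvd_pow_self _ two_ne_zero))
    have h3 : 1 ≤ Fintype.card F ^ 2 := Nat.one_le_pow _ _ Fintype.card_pos
    have h4 := (Nat.dvd_sub_iff_right h3 h2).1 h
    exact hpp.out.one_lt.ne' (Nat.dvd_one.1 h4)
  have hcop2 : ¬ p ∣ Nat.gcd 2 (Fintype.card F - 1) := by
    intro h
    have h2 : p ∣ Fintype.card F - 1 := h.trans (Nat.gcd_dvd_right _ _)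
    have h4 := (Nat.dvd_sub_iff_right Fintype.card_pos hpq).1 h2
    exact hpp.out.one_lt.ne' (Nat.dvd_one.1 h4)
  have h5 := congrArg (fun x : ℕ => x.factorization p) h1
  beta_reduce at h5
  have hne1 : Nat.gcd 2 (Fintype.card F - 1) ≠ 0 := fun h => hcop2 (h ▸ dvd_zero p)
  have hne2 : Fintype.card F ^ 2 - 1 ≠ 0 := fun h => hcop1 (h ▸ dvd_zero p)
  rw [Nat.factorization_mul Nat.card_pos.ne' hne1, Nat.factorization_mul Fintype.card_ne_zero hne2,
    Finsupp.add_apply, Finsupp.add_apply, Nat.factorization_eq_zero_of_not_dvd hcop2,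
    Nat.factorization_eq_zero_of_not_dvd hcop1, add_zero, add_zero, hn,
    Nat.Prime.factorization_pow hpp.out, Finsupp.single_eq_same] at h5
  rw [h5, hn]

variable {G : Type u} [Group G] [Finite G] (M : Subgroup G) [hM : M.Normal]

theorem rd_st (hF : 4 ≤ Fintype.card F) (e : M ≃* PSL) : RD G M (Fintype.card F) := by
  obtain ⟨p, hp⟩ := CharP.exists F
  have hpp : Fact p.Prime := ⟨CharP.char_is_prime F p⟩
  have hsimple : IsSimpleGroup PSL := Cfsg.Agent.TwoFusion.SLTwoFacts.isSimpleGroup_psl hF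
  have hsM : IsSimpleGroup M := (MulEquiv.isSimpleGroup_congr e).2 hsimple
  have h1 : Nat.card M = Nat.card PSL := Nat.card_congr e.toEquiv
  have h2 : p ^ (Nat.card M).factorization p = Fintype.card F := by rw [h1, fact_psl]
  have h3 : p ∣ Nat.card M := by
    by_contra hcon
    rw [Nat.factorization_eq_zero_of_not_dvd hcon, pow_zero] at h2
    omega
  have h4 := rd_lie M hpp.out (Or.inl ⟨F, inferInstance, inferInstance, hp, 2, le_refl 2, fun _ => hF, ⟨e⟩⟩) h3
  rwa [h2] at h4

theorem perfect_psl (hF : 4 ≤ Fintype.card F) (e : M ≃* PSL) : commutator M = ⊤ := by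
  have hsimple : IsSimpleGroup PSL := Cfsg.Agent.TwoFusion.SLTwoFacts.isSimpleGroup_psl hF
  have hsM : IsSimpleGroup M := (MulEquiv.isSimpleGroup_congr e).2 hsimple
  rcases IsSimpleGroup.eq_bot_or_eq_top_of_normal (commutator M) inferInstance with h | h
  · exfalso
    have hcc : ∀ a b : PSL, a * b = b * a := by
      intro a b
      obtain ⟨a, rfl⟩ := e.surjective a
      obtain ⟨b, rfl⟩ := e.surjective b
      have h1 : ⁅a, b⁆ ∈ commutator M :=
        Subgroup.commutator_mem_commutator (Subgroup.mem_top a) (Subgroup.mem_top b)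
      rw [h, Subgroup.mem_bot, commutatorElement_eq_one_iff_mul_comm] at h1
      rw [← map_mul, h1, map_mul]
    have h1 : (Nat.card PSL).Prime := by
      let _ : CommGroup PSL := { (inferInstance : Group PSL) with mul_comm := hcc }
      exact IsSimpleGroup.prime_card
    exact Cfsg.Agent.ClassicalGeometry.PSL2Solvable.not_prime_card F hF h1
  · exact h

/-- the odd degrees -/
theorem rd_odd_psl (hF : 4 ≤ Fintype.card F) (e : M ≃* PSL) {θ : PSL → ℂ} (hθ : IsIrrCharacter PSL θ)
    (hreal : ∀ s, (θ s).im = 0) (hodd : Odd (charDegree θ)) (h1 : charDegree θ ≠ 1) :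
    ∃ c, 0 < c ∧ c ∣ M.index ∧ RD G M (charDegree θ * c) := by
  obtain ⟨χ, hr, hov⟩ := exists_real_over_odd M (perfect_psl M hF e) (isIrr_e M e hθ) (fun n => hreal _)
    (by rw [deg_e]; exact hodd)
  have h2 := rd_of_over M (isIrr_e M e hθ) (by rw [deg_e]; exact h1) hr hov
  rwa [deg_e] at h2

variable (hc : Subgroup.centralizer (M : Set G) = ⊥)

/-- the other degrees -/
theorem rd_even_psl (e : M ≃* PSL) (hc : Subgroup.centralizer (M : Set G) = ⊥) {θ : PSL → ℂ}
    (hθ : IsIrrCharacter PSL θ)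
    (hreal : ∀ s, (θ s).im = 0) (h1 : charDegree θ ≠ 1)
    (hσ : ∀ g ∈ St M e θ, ff M e g * ff M e g = 1 → ff M e g = 1) :
    ∃ c, 0 < c ∧ c ∣ M.index ∧ RD G M (charDegree θ * c) := by
  obtain ⟨χ, hr, hov⟩ := exists_real_psl M e hc hθ hreal hσ
  have h2 := rd_of_over M (isIrr_e M e hθ) (by rw [deg_e]; exact h1) hr hov
  rwa [deg_e] at h2

theorem pow_bound {p a : ℕ} (hp : 3 ≤ p) (h4 : 4 < p ^ a) : 4 * a < p ^ a := by
  rcases Nat.lt_or_ge a 2 with h2 | h2
  · have : 4 * a ≤ 4 := by omega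
    omega
  · have key : ∀ b : ℕ, 4 * (2 + b) < 3 ^ (2 + b) := by
      intro b
      induction b with
      | zero => norm_num
      | succ b ih =>
        rw [show 2 + (b + 1) = (2 + b) + 1 by ring, pow_succ]
        omega
    obtain ⟨b, hb⟩ := Nat.exists_eq_add_of_le h2
    have h5 := key b
    rw [← hb] at h5
    have h6 : 3 ^ a ≤ p ^ a := Nat.pow_le_pow_left hp a
    omega

/-- `q` even -/
theorem r3_even (hF : 4 ≤ Fintype.card F) (e : M ≃* PSL) (hc : Subgroup.centralizer (M : Set G) = ⊥)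
    (h2 : ringChar F = 2) : R3 G M := by
  classical
  have hcp : CharP F 2 := h2 ▸ ringChar.charP F
  have hp2 : Fact (Nat.Prime 2) := ⟨Nat.prime_two⟩
  obtain ⟨a, -, ha⟩ := FiniteField.card F 2
  have hq := rd_st M hF e
  have hidx := index_le M e hc ha
  have hker : ∀ g : G, ff M e g = 1 → g ∈ M := by
    intro g hg
    obtain ⟨A, hA⟩ := form_one M e hg
    exact mem_of_sq M e hc hA (sq_two h2 A)
  have hidx' : M.index ≤ a := by
    have e1 : (ff M e).ker ≤ M := fun g hg => hker g hg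
    have e2 := Subgroup.index_dvd_of_le e1
    exact (Nat.le_of_dvd (Nat.pos_of_ne_zero Subgroup.index_ne_zero_of_finite) e2).trans
      (index_ker_le M e ha)
  set q := Fintype.card F with hqdef
  have heven : q % 2 = 0 := FiniteField.even_card_iff_char_two.1 h2
  have hrealSL : ∀ (θ : PSL → ℂ), IsIrrCharacter PSL θ → ∀ s, (θ s).im = 0 := by
    intro θ hθ
    refine im_of_inv hθ (real_psl_of_conj (Core.isIrr_isClassFunction hθ) fun g => ?_)
    by_cases hg : NS (g : Matrix (Fin 2) (Fin 2) F)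
    · rcases conj_cases hg with h | ⟨h, -⟩
      · exact h
      · exact absurd h2 h
    · rw [inv_of_not_NS hg]
  have hex : ∀ d : ℕ, (d = q - 1 ∨ d = q + 1) → ∃ θ : PSL → ℂ, IsIrrCharacter PSL θ ∧ charDegree θ = d := by
    intro d hd
    obtain ⟨-, hcnt⟩ := Cfsg.Agent.S2300.result (F := F)
    obtain ⟨-, -, cqp, cqm⟩ := hcnt hF
    have hcast : (Fintype.card F : ℂ) - 1 = ((q - 1 : ℕ) : ℂ) := by
      rw [Nat.cast_sub (by omega)]; simp [hqdef]
    have hcast' : (Fintype.card F : ℂ) + 1 = ((q + 1 : ℕ) : ℂ) := by push_cast; rfl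
    have key : ∀ z : ℂ, z = (d : ℂ) → Nat.card {χ : Cfsg.IrrCharacter SL // (χ : SL → ℂ) 1 = z} ≠ 0 →
        ∃ θ : PSL → ℂ, IsIrrCharacter PSL θ ∧ charDegree θ = d := by
      intro z hz hz0
      obtain ⟨⟨⟨χ, hχ⟩, hχz⟩⟩ := (Nat.card_ne_zero.1 hz0).1
      obtain ⟨θ, hθ, hθd, -⟩ := Cfsg.Agent.H597.L2Even.exists_psl h2 hχ
      exact ⟨θ, hθ, hθd.trans (charDegree_of_eq (hχz.trans hz))⟩
    rcases hd with rfl | rfl
    · exact key _ hcast (by rw [cqm]; omega)
    · exact key _ hcast' (by rw [cqp]; omega)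
  obtain ⟨θ1, hθ1, hd1⟩ := hex (q - 1) (Or.inl rfl)
  obtain ⟨θ2, hθ2, hd2⟩ := hex (q + 1) (Or.inr rfl)
  obtain ⟨c1, hc1, hc1i, hr1⟩ := rd_odd_psl M hF e hθ1 (hrealSL _ hθ1)
    (by rw [hd1, Nat.odd_iff]; omega) (by rw [hd1]; omega)
  obtain ⟨c2, hc2, hc2i, hr2⟩ := rd_odd_psl M hF e hθ2 (hrealSL _ hθ2)
    (by rw [hd2, Nat.odd_iff]; omega) (by rw [hd2]; omega)
  rw [hd1] at hr1
  rw [hd2] at hr2
  have hM0 : 0 < M.index := Nat.pos_of_ne_zero Subgroup.index_ne_zero_of_finite
  have hc1a := (Nat.le_of_dvd hM0 hc1i).trans hidx'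
  have haq : a < q := by
    rw [ha]
    exact Nat.lt_two_pow_self
  have hcop : Nat.Coprime (q - 1) (q + 1) := by
    have e1 : Odd (q - 1) := by rw [Nat.odd_iff]; omega
    have e2 : q + 1 = (q - 1) + 2 := by omega
    rw [e2, Nat.coprime_self_add_right]
    exact e1.coprime_two_right
  have hcop2 : Nat.Coprime (q - 1) q := by
    have := Nat.coprime_self_add_right (m := q - 1) (n := 1)
    rw [show q - 1 + 1 = q by omega] at this
    exact this.2 (Nat.coprime_one_right _)
  have hcop3 : Nat.Coprime (q + 1) q := by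
    rw [Nat.coprime_self_add_left]
    exact Nat.coprime_one_left _
  refine ⟨q, (q - 1) * c1, (q + 1) * c2, ?_, ?_, ?_, hq, hr1, hr2⟩
  · intro h
    have h5 : (q - 1) ∣ 1 := hcop2.dvd_of_dvd_mul_left (by rw [mul_one]; exact ⟨c1, h⟩)
    have := Nat.le_of_dvd one_pos h5
    omega
  · intro h
    have h5 : (q + 1) ∣ 1 := hcop3.dvd_of_dvd_mul_left (by rw [mul_one]; exact ⟨c2, h⟩)
    have := Nat.le_of_dvd one_pos h5
    omega
  · intro h
    have h5 : (q + 1) ∣ c1 := hcop.symm.dvd_of_dvd_mul_left ⟨c2, h⟩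
    have := Nat.le_of_dvd hc1 h5
    omega

/-- `q` odd -/
theorem r3_odd (hF : 4 ≤ Fintype.card F) (e : M ≃* PSL) (hc : Subgroup.centralizer (M : Set G) = ⊥)
    (h2 : ringChar F ≠ 2) : R3 G M := by
  classical
  obtain ⟨p, hp⟩ := CharP.exists F
  have hpp : Fact p.Prime := ⟨CharP.char_is_prime F p⟩
  obtain ⟨a, -, ha⟩ := FiniteField.card F p
  have hodd : Fintype.card F % 2 = 1 := FiniteField.odd_card_of_char_ne_two h2
  obtain ⟨m, hq⟩ : ∃ m, Fintype.card F = 2 * m + 1 := ⟨Fintype.card F / 2, by omega⟩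
  have hm2 : 2 ≤ m := by omega
  have hst := rd_st M hF e
  rw [hq] at hst
  have hpa : p ^ (a : ℕ) = 2 * m + 1 := by rw [← ha, hq]
  have hp3 : 3 ≤ p := by
    have h2 := hpp.out.two_le
    rcases Nat.lt_or_ge p 3 with h3 | h3
    · exfalso
      have h5 : p = 2 := by omega
      have h6 : 2 ∣ p ^ (a : ℕ) := by rw [h5]; exact dvd_pow_self 2 a.ne_zero
      omega
    · exact h3
  have h2a : 2 * (a : ℕ) ≤ m := by
    have h5 := pow_bound hp3 (a := a) (by omega)
    omega
  have hidx : M.index ≤ m := (index_le M e hc ha).trans h2a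
  have hM0 : 0 < M.index := Nat.pos_of_ne_zero Subgroup.index_ne_zero_of_finite
  have hone : ∀ g : G, ∀ i : ℕ, (∀ x, ff M e g x = x ^ p ^ i) → p ^ i = 1 → ff M e g = 1 := by
    intro g i hi h1
    ext x
    rw [hi, h1, pow_one]
    rfl
  have hsmall : ∀ i < (a : ℕ), 3 * p ^ i ≤ 2 * m + 1 := by
    intro i hi
    rw [← hpa]
    have h5 : p ^ (a : ℕ) = p ^ ((a : ℕ) - i) * p ^ i := by rw [← pow_add]; congr 1; omega
    rw [h5]
    apply Nat.mul_le_mul_right
    calc 3 ≤ p := hp3
      _ = p ^ 1 := (pow_one p).symm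
      _ ≤ p ^ ((a : ℕ) - i) := Nat.pow_le_pow_right (by omega) (by omega)
  -- the character of degree `q - 1`
  obtain ⟨θX, hθX, hθXd, hθXr, hX⟩ := exists_X_real (p := p) hm2 hq
  obtain ⟨c1, hc1, hc1i, hr1⟩ := rd_even_psl M e hc hθX hθXr (by omega) (by
    intro g hg _
    obtain ⟨A, hA⟩ := form M e g
    obtain ⟨i, hi, hi'⟩ := exists_frob ha (ff M e g)
    have h5 := hX A (ff M e g) i hi' (fun s => by rw [← hA]; exact hg s)
    have h6 := hsmall i hi
    have hpi : 0 < p ^ i := pow_pos hpp.out.pos i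
    apply hone g i hi'
    rcases h5 with h5 | h5
    · rcases Nat.eq_zero_or_pos (p ^ i - 1) with h7 | h7
      · omega
      · have := Nat.le_of_dvd h7 h5
        omega
    · have := Nat.le_of_dvd (by omega) h5
      omega)
  rw [hθXd] at hr1
  have hc1m := (Nat.le_of_dvd hM0 hc1i).trans hidx
  have hne1 : 2 * m + 1 ≠ 2 * m * c1 := by
    intro h
    have h5 : 2 * (m * c1) = 2 * m + 1 := by rw [h]; ring
    omega
  rcases Nat.even_or_odd m with hme | hmo
  · -- `q ≡ 1 mod 4`
    obtain ⟨θ, hθ, hθd⟩ := exists_half hq (by omega) (Or.inr rfl) hme.add_one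
    have hsq : IsSquare (-1 : F) := by
      rw [FiniteField.isSquare_neg_one_iff, hq]
      obtain ⟨k, hk⟩ := hme
      omega
    have hr := im_of_inv hθ (real_psl_of_conj (Core.isIrr_isClassFunction hθ) fun g => isConj_inv_of_sq hsq g)
    obtain ⟨c3, hc3, hc3i, hr3⟩ := rd_odd_psl M hF e hθ hr (by rw [hθd]; exact hme.add_one) (by omega)
    rw [hθd] at hr3
    refine ⟨2 * m + 1, 2 * m * c1, (m + 1) * c3, hne1, ?_, ?_, hst, hr1, hr3⟩
    · intro h
      have h5 : (m + 1) ∣ 2 * m + 1 := ⟨c3, h⟩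
      have h6 : (m + 1) ∣ 2 * (m + 1) := dvd_mul_left _ _
      have h7 : (m + 1) ∣ 1 := by
        have h8 := Nat.dvd_sub h6 h5
        rwa [show 2 * (m + 1) - (2 * m + 1) = 1 by omega] at h8
      have := Nat.le_of_dvd one_pos h7
      omega
    · intro h
      have hcop : Nat.Coprime (m + 1) (2 * m) := by
        apply Nat.Coprime.mul_right
        · exact hme.add_one.coprime_two_right
        · rw [Nat.coprime_self_add_left]
          exact Nat.coprime_one_left _
      have h5 : (m + 1) ∣ c1 := hcop.dvd_of_dvd_mul_left ⟨c3, h⟩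
      have := Nat.le_of_dvd hc1 h5
      omega
  · -- `q ≡ 3 mod 4`
    have hm3 : 2 < m := by
      obtain ⟨k, hk⟩ := hmo
      omega
    obtain ⟨θR, hθR, hθRd, hθRr, hR⟩ := exists_R_real (p := p) hm3 hq
    obtain ⟨c2, hc2, hc2i, hr2⟩ := rd_even_psl M e hc hθR hθRr (by omega) (by
      intro g hg _
      obtain ⟨A, hA⟩ := form M e g
      obtain ⟨i, hi, hi'⟩ := exists_frob ha (ff M e g)
      have h5 := hR A (ff M e g) i hi' (fun s => by rw [← hA]; exact hg s)
      have h6 := hsmall i hi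
      have hpi : 0 < p ^ i := pow_pos hpp.out.pos i
      apply hone g i hi'
      have h3i : p ^ i = 1 ∨ 3 ≤ p ^ i := by
        rcases Nat.eq_zero_or_pos i with h8 | h8
        · left; rw [h8, pow_zero]
        · right
          calc 3 ≤ p := hp3
            _ = p ^ 1 := (pow_one p).symm
            _ ≤ p ^ i := Nat.pow_le_pow_right (by omega) h8
      rcases h5 with h5 | h5
      · rcases Nat.eq_zero_or_pos (p ^ i - 1) with h7 | h7
        · omega
        · have := Nat.le_of_dvd h7 h5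
          obtain ⟨l, hl⟩ := hmo
          omega
      · have := Nat.le_of_dvd (by omega) h5
        obtain ⟨l, hl⟩ := hmo
        omega)
    rw [hθRd] at hr2
    refine ⟨2 * m + 1, 2 * m * c1, (2 * m + 2) * c2, hne1, ?_, ?_, hst, hr1, hr2⟩
    · intro h
      have h5 : 2 * ((m + 1) * c2) = 2 * m + 1 := by rw [h]; ring
      omega
    · intro h
      have h5 : m * c1 = (m + 1) * c2 := by
        have h6 : 2 * (m * c1) = 2 * ((m + 1) * c2) := by
          rw [← mul_assoc, h]; ring
        omega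
      have hcop : Nat.Coprime (m + 1) m := by
        rw [Nat.coprime_self_add_left]
        exact Nat.coprime_one_left m
      have h6 : (m + 1) ∣ c1 := hcop.dvd_of_dvd_mul_left ⟨c2, h5⟩
      have := Nat.le_of_dvd hc1 h6
      omega

end

end Cfsg.Agent.H579.RR

namespace Cfsg.Agent.H579.R4

open Cfsg Cfsg.Agent.H619.R4

universe u

/-- **Three real degrees: `PSL₂(q)`.** -/
theorem row_psl2 {S : Type u} [Group S] (F : Type) [Field F] [Fintype F] (hF : 4 ≤ Fintype.card F)
    (e : Nonempty (S ≃* Matrix.ProjectiveSpecialLinearGroup (Fin 2) F)) : Row S := by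
  intro G _ _ N _ ⟨f⟩ hC _
  obtain ⟨e⟩ := e
  by_cases h2 : ringChar F = 2
  · exact RR.r3_even N hF (f.symm.trans e) hC h2
  · exact RR.r3_odd N hF (f.symm.trans e) hC h2

end Cfsg.Agent.H579.R4
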