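import Cfsg.Agent.H494.R4.PointOdd
import Cfsg.Agent.H579.RR.Psl2Row
import Cfsg.Agent.S0165

/-!
# Real characters of odd degree not vanishing at a real element (S4554, helper579)

* `exists_odd_at_real` : `x ≠ 1` real: a real irreducible character `≠ 1` of odd degree which does not vanish at `x`
  (after helper494's `exists_odd_at`);
* `vanish` : characters of defect zero;
* `rd_odd_deg` : the degree in `G` of a real irreducible character of odd degree of a perfect normal subgroup.
-/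

set_option autoImplicit false
set_option linter.unusedSectionVars false

namespace Cfsg.Agent.H579.RR

open Cfsg Cfsg.Agent.Characters Cfsg.Agent.Blocks Cfsg.Agent.H686.CharKit
open Cfsg.Agent.H727.Orth Cfsg.Agent.H619.R4
open Cfsg.Agent.H672 (Over inertia over_iff over_comp_iff over_subtype_iff mem_inertia_iff le_inertia)
open Cfsg.Agent.H705.StrongLin (ind ind_eq real_of_ind)
open Cfsg.Agent.H694 (ind_cases ind_eq_zero_iff cj cj_cj charDegree_cj sum_eq_sum_real real_of_ind_ne)
open scoped ComplexConjugate commutatorElement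

universe u

/-- **Parity at a real element.** -/
theorem exists_odd_at_real {S : Type u} [Group S] [Finite S] {x : S} (hx : x ≠ 1) (hr : IsConj x x⁻¹) :
    ∃ χ : IrrCharacter S, (∀ s, ((χ : S → ℂ) s).im = 0) ∧ Odd (charDegree (χ : S → ℂ)) ∧
      (χ : S → ℂ) ≠ 1 ∧ (χ : S → ℂ) x ≠ 0 := by
  classical
  have := Fintype.ofFinite S
  have := Core.finite_irr (G := S)
  have := Fintype.ofFinite (IrrCharacter S)
  have hint : ∀ χ : IrrCharacter S, (χ : S → ℂ) x ∈ integralClosure ℤ ℂ := fun χ =>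
    Characters.GaloisBasic.isIntegral_apply (Core.isIrr_isCharacter χ.2) x
  obtain ⟨v, hv⟩ : ∃ v : IrrCharacter S → OI, ∀ χ, ((v χ : OI) : ℂ) = (χ : S → ℂ) x :=
    ⟨fun χ => ⟨_, hint χ⟩, fun _ => rfl⟩
  obtain ⟨one, hone⟩ : ∃ one : IrrCharacter S, (one : S → ℂ) = 1 := ⟨⟨1, Core.isIrr_one⟩, rfl⟩
  obtain ⟨f, hf⟩ : ∃ f : IrrCharacter S → O2, ∀ χ, f χ = red ((charDegree (χ : S → ℂ) : OI) * v χ) :=
    ⟨_, fun _ => rfl⟩
  have hcl : ∀ (χ : IrrCharacter S) {a b : S}, IsConj a b → (χ : S → ℂ) a = (χ : S → ℂ) b := by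
    intro χ a b h
    obtain ⟨c, rfl⟩ := isConj_iff.1 h
    exact (Core.isIrr_isClassFunction χ.2 a c).symm
  -- the sum of all terms is zero
  have h1 : ∑ χ : IrrCharacter S, f χ = 0 := by
    have h2 : ∑ χ : IrrCharacter S, ((charDegree (χ : S → ℂ) : OI) * v χ) = 0 := by
      have h3 := Characters.Counting.sum_irr_one_mul x
      rw [if_neg hx] at h3
      apply Subtype.ext
      push_cast
      rw [← h3]
      refine Finset.sum_congr rfl fun χ _ => ?_
      rw [hv, Cfsg.Agent.Blocks.Basic.irr_one_eq_charDegree χ.2]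
    rw [Finset.sum_congr rfl fun χ _ => hf χ, ← map_sum, h2, map_zero]
  have hfone : f one = 1 := by
    rw [hf]
    have h2 : charDegree (one : S → ℂ) = 1 := by
      have h3 := Cfsg.Agent.Blocks.Basic.irr_one_eq_charDegree one.2
      rw [hone, Pi.one_apply] at h3
      rw [hone]
      exact_mod_cast h3.symm
    have h3 : v one = 1 := by
      apply Subtype.ext
      rw [hv, hone]
      rfl
    rw [h2, h3, Nat.cast_one, one_mul, map_one]
  have hcj : ∀ χ, f (cj χ) = f χ := by
    intro χ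
    rw [hf, hf, charDegree_cj]
    congr 2
    apply Subtype.ext
    rw [hv, hv]
    show conj ((χ : S → ℂ) x) = _
    rw [← Core.isCharacter_apply_inv (Core.isIrr_isCharacter χ.2)]
    exact (hcl χ hr).symm
  have h2 := sum_eq_sum_real add_self_zero f hcj
  rw [h1] at h2
  have h3 : ∑ᶠ χ ∈ {χ : IrrCharacter S | ind (χ : S → ℂ) ≠ 0}, f χ =
      ∑ χ ∈ Finset.univ.filter (fun χ : IrrCharacter S => ind (χ : S → ℂ) ≠ 0), f χ := by
    rw [← finsum_mem_coe_finset]
    congr 1
    funext χ
    simp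
  rw [h3] at h2
  have hind1 : ind (one : S → ℂ) ≠ 0 := by
    intro h
    obtain ⟨s, hs⟩ := (ind_eq_zero_iff one.2).1 h
    rw [hone] at hs
    simp at hs
  have h4 : one ∈ Finset.univ.filter (fun χ : IrrCharacter S => ind (χ : S → ℂ) ≠ 0) := by
    rw [Finset.mem_filter]
    exact ⟨Finset.mem_univ _, hind1⟩
  rw [← Finset.add_sum_erase _ _ h4, hfone] at h2
  have h5 : ∑ χ ∈ (Finset.univ.filter (fun χ : IrrCharacter S => ind (χ : S → ℂ) ≠ 0)).erase one, f χ ≠ 0 := by
    intro h
    rw [h, add_zero] at h2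
    exact one_ne_zero h2.symm
  obtain ⟨χ, hχ, hfχ⟩ := Finset.exists_ne_zero_of_sum_ne_zero h5
  rw [Finset.mem_erase, Finset.mem_filter] at hχ
  rw [hf, map_mul] at hfχ
  refine ⟨χ, fun s => real_of_ind_ne χ.2 hχ.2.2 s, ?_, ?_, ?_⟩
  · by_contra ho
    rw [Nat.not_odd_iff_even] at ho
    obtain ⟨k, hk⟩ := ho
    apply hfχ
    have h10 : ((charDegree (χ : S → ℂ) : ℕ) : OI) = 2 * (k : OI) := by
      rw [hk]
      push_cast
      ring
    rw [h10, red_two_mul, zero_mul]
  · intro h10
    exact hχ.1 (Subtype.ext (h10.trans hone.symm))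
  · intro h10
    apply hfχ
    have h11 : v χ = 0 := by
      apply Subtype.ext
      rw [hv, h10]
      rfl
    rw [h11, map_zero, mul_zero]

/-- Characters of defect zero. -/
theorem vanish {S : Type u} [Group S] [Finite S] (χ : IrrCharacter S) {p c : ℕ} (hp : p.Prime)
    (hc : Nat.card S = charDegree (χ : S → ℂ) * c) (hpc : ¬ p ∣ c) {x : S} (hx : p ∣ orderOf x) :
    (χ : S → ℂ) x = 0 := by
  classical
  obtain ⟨n, ρ, hρ, hχ⟩ := χ.2
  have h0 : Nat.card S ≠ 0 := Nat.card_pos.ne'
  set e := (Nat.card S).factorization p with he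
  have h1 : p ^ e ∣ Nat.card S := Nat.ordProj_dvd _ _
  have h2 : ¬ p ^ (e + 1) ∣ Nat.card S := Nat.pow_succ_factorization_not_dvd h0 hp
  have h3 : p ^ e ∣ charDegree (χ : S → ℂ) := by
    have h4 : Nat.Coprime (p ^ e) c := Nat.Coprime.pow_left _ ((Nat.Prime.coprime_iff_not_dvd hp).2 hpc)
    rw [hc] at h1
    exact h4.dvd_of_dvd_mul_right h1
  have h4 : charDegree (χ : S → ℂ) = Module.finrank ℂ (Fin n → ℂ) := by
    have h5 := Cfsg.Agent.Blocks.Basic.irr_one_eq_charDegree χ.2
    rw [← hχ] at h5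
    have h6 : ρ.character 1 = (Module.finrank ℂ (Fin n → ℂ) : ℂ) := ρ.char_one
    have h7 : ((charDegree ρ.character : ℕ) : ℂ) = (Module.finrank ℂ (Fin n → ℂ) : ℂ) := by
      rw [← h6]
      exact h5.symm
    rw [← hχ]
    exact_mod_cast h7
  rw [h4] at h3
  rw [← hχ]
  have := hρ
  exact Cfsg.Agent.S0165.result ρ p e hp h1 h2 h3 x hx

/-- the only linear character of a perfect group -/
theorem eq_one_of_perfect {S : Type u} [Group S] [Finite S] (hS : commutator S = ⊤) {χ : S → ℂ}
    (hχ : IsIrrCharacter S χ) (h1 : charDegree χ = 1) : χ = 1 := by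
  have h2 : χ 1 = 1 := by
    rw [Cfsg.Agent.Blocks.Basic.irr_one_eq_charDegree hχ, h1, Nat.cast_one]
  obtain ⟨f, hf⟩ := Characters.Linear.exists_hom_of_isIrrCharacter hχ h2
  have h3 : ∀ s, f s = 1 := by
    intro s
    have h4 : s ∈ f.ker := by
      have h5 : commutator S ≤ f.ker := Abelianization.commutator_subset_ker f
      exact h5 (by rw [hS]; exact Subgroup.mem_top s)
    exact h4
  funext s
  rw [hf]
  show ((f s : ℂˣ) : ℂ) = 1
  rw [h3, Units.val_one]

/-- **Odd degrees**, for a perfect normal subgroup. -/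
theorem rd_odd_deg {G : Type u} [Group G] [Finite G] (N : Subgroup G) [N.Normal] (hperf : commutator N = ⊤)
    {θ : N → ℂ} (hθ : IsIrrCharacter N θ) (hreal : ∀ n, (θ n).im = 0) (hodd : Odd (charDegree θ)) (hne : θ ≠ 1) :
    ∃ c, 0 < c ∧ c ∣ N.index ∧ RD G N (charDegree θ * c) := by
  obtain ⟨χ, hr, hov⟩ := exists_real_over_odd N hperf hθ hreal hodd
  exact rd_of_over N hθ (fun h => hne (eq_one_of_perfect hperf hθ h)) hr hov

/-- nonabelian simple groups are perfect -/
theorem perfect_of_simple {S : Type*} [Group S] [IsSimpleGroup S] {a b : S} (h : a * b ≠ b * a) :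
    commutator S = ⊤ := by
  rcases IsSimpleGroup.eq_bot_or_eq_top_of_normal (commutator S) inferInstance with h1 | h1
  · exfalso
    have h2 : ⁅a, b⁆ ∈ commutator S := Subgroup.commutator_mem_commutator (Subgroup.mem_top a) (Subgroup.mem_top b)
    rw [h1, Subgroup.mem_bot, commutatorElement_eq_one_iff_mul_comm] at h2
    exact h h2
  · exact h1

end Cfsg.Agent.H579.RR
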