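import Cfsg.Agent.H597.L2Char

/-!
# Real characters of `PSL₂(F)` (S4554, helper579)
-/

set_option autoImplicit false
set_option linter.unusedSectionVars false

namespace Cfsg.Agent.H579.RR

open Matrix Cfsg Cfsg.Agent.Characters.Core Cfsg.Agent.H984.SLTwo Cfsg.Agent.H597.L2Char
open Cfsg.Agent.Blocks.Basic (charDegree_of_eq irr_one_eq_charDegree charDegree_pos)
open Cfsg.Agent.ClassicalGeometry.AutPSL.Root (pr pr_surjective pr_eq_one_iff)
open Cfsg.Agent.ClassicalGeometry.AutPSL.Auto (cj fld lift lift_pr coe_cj coe_fld_apply)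

variable {F : Type*} [Field F] [Fintype F]

local notation "PSL" => Matrix.ProjectiveSpecialLinearGroup (Fin 2) F
local notation "SL" => Matrix.SpecialLinearGroup (Fin 2) F
local notation "M₂" => Matrix (Fin 2) (Fin 2) F

theorem tr_inv (g : SL) : tr ((g⁻¹ : SL) : M₂) = tr (g : M₂) := by
  rw [Matrix.SpecialLinearGroup.coe_inv, Matrix.adjugate_fin_two]
  unfold tr
  simp [add_comm]

theorem NS_inv {g : SL} (h : NS (g : M₂)) : NS ((g⁻¹ : SL) : M₂) := by
  rw [Matrix.SpecialLinearGroup.coe_inv, Matrix.adjugate_fin_two]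
  unfold NS at h ⊢
  simp only [Matrix.of_apply, Matrix.cons_val', Matrix.cons_val_zero,
      Matrix.cons_val_one, Matrix.cons_val_fin_one, ne_eq, neg_eq_zero]
  rcases h with h | h | h
  · exact Or.inl h
  · exact Or.inr (Or.inl h)
  · exact Or.inr (Or.inr fun h' => h h'.symm)

theorem inv_of_not_NS [DecidableEq F] {g : SL} (h : ¬ NS (g : M₂)) : g⁻¹ = g := by
  rcases scalar_cases h with h | h
  · rw [h, upp_one_zero, inv_one]
  · rw [inv_eq_iff_mul_eq_one, h]
    exact z0_mul_self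

/-- the cases for a nonscalar element -/
theorem conj_cases [DecidableEq F] {g : SL} (hg : NS (g : M₂)) : IsConj g g⁻¹ ∨
    (ringChar F ≠ 2 ∧ ∃ u : Fˣ, u⁻¹ = u ∧ ∃ b c : F, b ≠ 0 ∧ c ≠ 0 ∧ IsConj g (upp u b) ∧ IsConj g⁻¹ (upp u c)) := by
  by_cases h2 : ringChar F = 2
  · exact Or.inl (isConj_of_tr hg (NS_inv hg) (tr_inv g).symm (Or.inl h2))
  by_cases h4 : tr (g : M₂) ^ 2 = 4
  · right
    refine ⟨h2, ?_⟩
    have hcase : tr (g : M₂) = 2 * ((1 : Fˣ) : F) ∨ tr (g : M₂) = 2 * ((-1 : Fˣ) : F) := by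
      have h5 : (tr (g : M₂) - 2) * (tr (g : M₂) + 2) = 0 := by linear_combination h4
      rcases mul_eq_zero.1 h5 with h | h
      · left
        rw [Units.val_one]
        linear_combination h
      · right
        rw [Units.val_neg, Units.val_one]
        linear_combination h
    rcases hcase with h | h
    · obtain ⟨b, hb, hc⟩ := exists_conj_upp' inv_one hg h
      obtain ⟨c, hc', hd⟩ := exists_conj_upp' inv_one (NS_inv hg) ((tr_inv g).trans h)
      exact ⟨1, inv_one, b, c, hb, hc', hc, hd⟩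
    · obtain ⟨b, hb, hc⟩ := exists_conj_upp' neg_one_inv hg h
      obtain ⟨c, hc', hd⟩ := exists_conj_upp' neg_one_inv (NS_inv hg) ((tr_inv g).trans h)
      exact ⟨-1, neg_one_inv, b, c, hb, hc', hc, hd⟩
  · exact Or.inl (isConj_of_tr hg (NS_inv hg) (tr_inv g).symm (Or.inr h4))

theorem eq_of_isConj {G : Type*} [Group G] {χ : G → ℂ} (hcl : IsClassFunction G χ) {a b : G} (h : IsConj a b) :
    χ a = χ b := by
  obtain ⟨c, rfl⟩ := isConj_iff.1 h
  exact (hcl a c).symm

theorem real_of_upp [DecidableEq F] {χ : SL → ℂ} (hcl : IsClassFunction SL χ)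
    (h : ∀ u : Fˣ, u⁻¹ = u → ∀ b c : F, b ≠ 0 → c ≠ 0 → χ (upp u b) = χ (upp u c)) (g : SL) : χ g⁻¹ = χ g := by
  by_cases hg : NS (g : M₂)
  · rcases conj_cases hg with h1 | ⟨-, u, hu, b, c, hb, hc, h1, h2⟩
    · exact (eq_of_isConj hcl h1).symm
    · rw [eq_of_isConj hcl h1, eq_of_isConj hcl h2]
      exact h u hu c b hc hb
  · rw [inv_of_not_NS hg]

theorem upp_inv [DecidableEq F] {u : Fˣ} (hu : u⁻¹ = u) (b : F) : (upp u b : SL)⁻¹ = upp u (-b) := by
  rw [inv_eq_iff_mul_eq_one]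
  have huu : (u : F) * u = 1 := by
    have := mul_inv_cancel u
    rw [hu] at this
    rw [← Units.val_mul, this, Units.val_one]
  apply Matrix.SpecialLinearGroup.ext
  intro i j
  rw [Matrix.SpecialLinearGroup.coe_mul, coe_upp, coe_upp, hu]
  fin_cases i <;> fin_cases j <;> simp [Matrix.mul_apply, huu]
  ring

/-- All elements are real if `-1` is a square. -/
theorem isConj_inv_of_sq [DecidableEq F] (hsq : IsSquare (-1 : F)) (g : SL) : IsConj g g⁻¹ := by
  by_cases hg : NS (g : M₂)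
  · rcases conj_cases hg with h1 | ⟨-, u, hu, b, c, hb, hc, h1, h2⟩
    · exact h1
    · have h3 : IsConj (upp u b : SL) (upp u b)⁻¹ := by
        rw [upp_inv hu, isConj_upp_iff' hu hb (neg_ne_zero.2 hb)]
        obtain ⟨a, ha⟩ := hsq
        exact ⟨a * b, by linear_combination b * b * ha⟩
      obtain ⟨x, hx⟩ := isConj_iff.1 h1
      refine h1.trans (h3.trans ?_)
      rw [← hx]
      refine isConj_iff.2 ⟨x⁻¹, by group⟩
  · rw [inv_of_not_NS hg]

theorem real_psl_of_conj {θ : PSL → ℂ} (hθ : IsClassFunction PSL θ) (h : ∀ g : SL, IsConj g g⁻¹) (s : PSL) :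
    θ s⁻¹ = θ s := by
  obtain ⟨g, rfl⟩ := pr_surjective s
  obtain ⟨x, hx⟩ := isConj_iff.1 (h g)
  rw [← map_inv, ← hx, map_mul, map_mul, map_inv]
  exact hθ _ _

theorem im_of_inv {G : Type*} [Group G] [Finite G] {χ : G → ℂ} (hχ : IsIrrCharacter G χ) (h : ∀ g, χ g⁻¹ = χ g)
    (g : G) : (χ g).im = 0 := by
  have h1 := h g
  rw [isCharacter_apply_inv (isIrr_isCharacter hχ)] at h1
  exact Complex.conj_eq_iff_im.1 h1

end Cfsg.Agent.H579.RR
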