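import Cfsg.Agent.H579.RR.OddOver
import Cfsg.Agent.H579.RR.Psl2RX
import Cfsg.Agent.H597.L2Row

/-!
# Real characters over real characters of `PSL₂(F)` (S4554, helper579)

* `rd_of_over` : the degree of a real character over a nonlinear character of `N`;
* `real_ker` : the elements of `PGL₂` are real;
* `exists_real_psl` : no element of the stabiliser of `θ` has a field part of order two: a real character over `θ`.
-/

set_option autoImplicit false
set_option linter.unusedSectionVars false

namespace Cfsg.Agent.H579.RR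

open Matrix Cfsg Cfsg.Agent.Characters Cfsg.Agent.H619.R4 Cfsg.Agent.H686.CharKit
open Cfsg.Agent.H672 (Over inertia over_iff over_comp_iff over_subtype_iff mem_inertia_iff le_inertia)
open Cfsg.Agent.H597.L2Row Cfsg.Agent.H597.L2Cliff
open scoped ComplexConjugate

universe u

theorem odd_relIndex {G : Type*} [Group G] [Finite G] (N T : Subgroup G) [N.Normal]
    (h : ∀ g ∈ T, g * g ∈ N → g ∈ N) : Odd (N.relIndex T) := by
  rw [← Nat.not_even_iff_odd]
  intro he
  have : Fact (Nat.Prime 2) := ⟨Nat.prime_two⟩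
  have h1 : 2 ∣ Nat.card (T ⧸ N.subgroupOf T) := by
    rw [← Subgroup.index_eq_card]
    exact he.two_dvd
  obtain ⟨x, hx⟩ := exists_prime_orderOf_dvd_card' 2 h1
  induction x using QuotientGroup.induction_on with
  | H t =>
  have h2 : (t : T ⧸ N.subgroupOf T) * t = 1 := by
    have := pow_orderOf_eq_one (t : T ⧸ N.subgroupOf T)
    rwa [hx, pow_two] at this
  rw [← QuotientGroup.mk_mul, QuotientGroup.eq_one_iff, Subgroup.mem_subgroupOf] at h2
  have h3 : (t : T ⧸ N.subgroupOf T) = 1 := by
    rw [QuotientGroup.eq_one_iff, Subgroup.mem_subgroupOf]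
    exact h t t.2 h2
  rw [h3, orderOf_one] at hx
  omega

theorem rd_of_over {G : Type u} [Group G] [Finite G] (N : Subgroup G) [N.Normal] {φ : N → ℂ}
    (hφ : IsIrrCharacter N φ) (h1 : charDegree φ ≠ 1) {χ : IrrCharacter G} (hr : ∀ g, ((χ : G → ℂ) g).im = 0)
    (h : Over N.subtype (χ : G → ℂ) φ) : ∃ c, 0 < c ∧ c ∣ N.index ∧ RD G N (charDegree φ * c) := by
  classical
  have := Fintype.ofFinite G
  have := Fintype.ofFinite N
  have h' := (over_subtype_iff N (χ : G → ℂ) φ).1 h
  obtain ⟨c, hc, hci⟩ := H597.Degrees.degree_over N χ.2 hφ h'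
  refine ⟨c, ?_, hci, χ, hr, ?_, hc⟩
  · rcases Nat.eq_zero_or_pos c with h0 | h0
    · rw [h0, mul_zero] at hc
      have := H672.charDegree_pos χ.2
      omega
    · exact h0
  · by_contra hcon
    push Not at hcon
    have h2 : (fun n : N => (χ : G → ℂ) n) = (χ : G → ℂ) 1 • (1 : N → ℂ) := by
      funext n
      rw [hcon n n.2]
      simp
    apply h'
    rw [h2, Core.classInner_smul_left, Core.classInner_irr_ne Core.isIrr_one hφ, mul_zero]
    intro h3
    apply h1
    rw [← h3]
    exact H672.charDegree_of_eq (by simp)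

section gl

variable {F : Type*} [Field F]

theorem exists_adj_conj (A : GL (Fin 2) F) : ∃ (B Z : GL (Fin 2) F),
    B * A * B⁻¹ * A = Z ∧ ∀ C : GL (Fin 2) F, Z * C = C * Z := by
  obtain ⟨B, hB⟩ : ∃ B : GL (Fin 2) F, (B : Matrix (Fin 2) (Fin 2) F) * (A : Matrix (Fin 2) (Fin 2) F) =
      (A : Matrix (Fin 2) (Fin 2) F).adjugate * B := by
    have hmk : ∀ M : Matrix (Fin 2) (Fin 2) F, M.det ≠ 0 → M * (A : Matrix (Fin 2) (Fin 2) F) =
        (A : Matrix (Fin 2) (Fin 2) F).adjugate * M → ∃ B : GL (Fin 2) F,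
        (B : Matrix (Fin 2) (Fin 2) F) * (A : Matrix (Fin 2) (Fin 2) F) =
          (A : Matrix (Fin 2) (Fin 2) F).adjugate * B := by
      intro M hM h
      exact ⟨Matrix.GeneralLinearGroup.mkOfDetNeZero M hM, h⟩
    by_cases hc : (A : Matrix (Fin 2) (Fin 2) F) 1 0 = 0
    · by_cases hb : (A : Matrix (Fin 2) (Fin 2) F) 0 1 = 0
      · refine hmk !![0, 1; 1, 0] (by simp [Matrix.det_fin_two_of]) ?_
        rw [Matrix.adjugate_fin_two]
        ext i j
        fin_cases i <;> fin_cases j <;> simp [Matrix.mul_apply, Fin.sum_univ_two, hc, hb]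
      · refine hmk !![(A : Matrix (Fin 2) (Fin 2) F) 0 1, 0;
          (A : Matrix (Fin 2) (Fin 2) F) 1 1 - (A : Matrix (Fin 2) (Fin 2) F) 0 0,
          -(A : Matrix (Fin 2) (Fin 2) F) 0 1] ?_ ?_
        · rw [Matrix.det_fin_two_of]
          have : (A : Matrix (Fin 2) (Fin 2) F) 0 1 * -(A : Matrix (Fin 2) (Fin 2) F) 0 1 -
            0 * ((A : Matrix (Fin 2) (Fin 2) F) 1 1 - (A : Matrix (Fin 2) (Fin 2) F) 0 0) =
            -((A : Matrix (Fin 2) (Fin 2) F) 0 1 * (A : Matrix (Fin 2) (Fin 2) F) 0 1) := by ring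
          rw [this]
          exact neg_ne_zero.2 (mul_ne_zero hb hb)
        · rw [Matrix.adjugate_fin_two]
          ext i j
          fin_cases i <;> fin_cases j <;> simp [Matrix.mul_apply, Fin.sum_univ_two, hc] <;> ring
    · refine hmk !![(A : Matrix (Fin 2) (Fin 2) F) 1 0,
          (A : Matrix (Fin 2) (Fin 2) F) 1 1 - (A : Matrix (Fin 2) (Fin 2) F) 0 0; 0,
          -(A : Matrix (Fin 2) (Fin 2) F) 1 0] ?_ ?_
      · rw [Matrix.det_fin_two_of]
        have : (A : Matrix (Fin 2) (Fin 2) F) 1 0 * -(A : Matrix (Fin 2) (Fin 2) F) 1 0 -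
          ((A : Matrix (Fin 2) (Fin 2) F) 1 1 - (A : Matrix (Fin 2) (Fin 2) F) 0 0) * 0 =
          -((A : Matrix (Fin 2) (Fin 2) F) 1 0 * (A : Matrix (Fin 2) (Fin 2) F) 1 0) := by ring
        rw [this]
        exact neg_ne_zero.2 (mul_ne_zero hc hc)
      · rw [Matrix.adjugate_fin_two]
        ext i j
        fin_cases i <;> fin_cases j <;> simp [Matrix.mul_apply, Fin.sum_univ_two] <;> ring
  refine ⟨B, _, rfl, fun C => ?_⟩
  have h1 : ((B * A * B⁻¹ * A : GL (Fin 2) F) : Matrix (Fin 2) (Fin 2) F) =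
      (A : Matrix (Fin 2) (Fin 2) F).det • (1 : Matrix (Fin 2) (Fin 2) F) := by
    rw [Units.val_mul, Units.val_mul, Units.val_mul, hB, Matrix.mul_assoc (A : Matrix (Fin 2) (Fin 2) F).adjugate,
      Units.mul_inv, Matrix.mul_one, Matrix.adjugate_mul]
  apply Units.ext
  rw [Units.val_mul (B * A * B⁻¹ * A) C, Units.val_mul C (B * A * B⁻¹ * A), h1, Matrix.smul_mul, Matrix.mul_smul,
    Matrix.one_mul, Matrix.mul_one]

end gl

section setup

variable {G : Type u} [Group G] (M : Subgroup G) [hM : M.Normal] {F : Type} [Field F] [Fintype F]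

local notation "PSL" => Matrix.ProjectiveSpecialLinearGroup (Fin 2) F
local notation "SL" => Matrix.SpecialLinearGroup (Fin 2) F
local notation "M₂" => Matrix (Fin 2) (Fin 2) F

variable (e : M ≃* Matrix.ProjectiveSpecialLinearGroup (Fin 2) F)

variable (hc : Subgroup.centralizer (M : Set G) = ⊥)

include hc in
/-- **The elements of the kernel of the field part are real**, if it is bigger than `M`. -/
theorem real_ker (hne : ∃ k : G, ff M e k = 1 ∧ k ∉ M) (k : (ff M e).ker) :
    ∃ x : (ff M e).ker, x * k * x⁻¹ = k⁻¹ := by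
  obtain ⟨k0, hk0, hk0M⟩ := hne
  obtain ⟨π, hπ⟩ := exists_GL_surj M e hc (ff M e).ker (le_ker M e) (fun h hh => hh) ⟨k0, hk0, hk0M⟩
  obtain ⟨A, rfl⟩ := hπ k
  obtain ⟨B, Z, h1, h2⟩ := exists_adj_conj A
  have h3 : π Z = 1 := by
    have h4 : ((π Z : (ff M e).ker) : G) ∈ Subgroup.centralizer (M : Set G) := by
      rw [Subgroup.mem_centralizer_iff]
      intro m hm
      obtain ⟨C, hC⟩ := hπ ⟨m, le_ker M e hm⟩
      have h5 : π Z * π C = π C * π Z := by rw [← map_mul, h2, map_mul]
      rw [hC] at h5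
      exact (congrArg Subtype.val h5).symm
    rw [hc] at h4
    exact Subtype.ext (Subgroup.mem_bot.1 h4)
  refine ⟨π B, ?_⟩
  rw [eq_inv_iff_mul_eq_one, ← map_inv, ← map_mul, ← map_mul, ← map_mul, h1, h3]

include hc in
/-- **Real characters over a real character whose stabiliser contains no involutory field part.** -/
theorem exists_real_psl [Finite G] {θ : PSL → ℂ} (hθ : IsIrrCharacter PSL θ) (hreal : ∀ s, (θ s).im = 0)
    (hσ : ∀ g ∈ St M e θ, ff M e g * ff M e g = 1 → ff M e g = 1) :
    ∃ χ : IrrCharacter G, (∀ g, ((χ : G → ℂ) g).im = 0) ∧ Over M.subtype (χ : G → ℂ) (θ ∘ e) := by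
  classical
  have := Fintype.ofFinite G
  have := Fintype.ofFinite M
  have hθe := isIrr_e M e hθ
  by_cases hK : ∀ g : G, ff M e g = 1 → g ∈ M
  · obtain ⟨χ, hr, hχ⟩ := exists_real_of_odd_stab M hθe (fun n => hreal _) (St M e θ)
      (fun g => mem_St' M e) (odd_relIndex M (St M e θ) fun g hg hgg => by
        apply hK
        apply hσ g hg
        rw [← map_mul]
        exact ff_mem M e hgg)
    exact ⟨χ, hr, (over_subtype_iff M _ _).2 hχ⟩
  · push Not at hK
    set K := (ff M e).ker with hKd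
    have hMK : M ≤ K := le_ker M e
    have := Fintype.ofFinite K
    have := Fintype.ofFinite (M.subgroupOf K)
    have hn : (M.subgroupOf K).Normal := inferInstance
    -- a character of `K` over `θ`
    obtain ⟨ψ, hψ, hov⟩ := H672.exists_over_subtype (M.subgroupOf K) (isIrr_up M hθe hMK)
    have hψr : ∀ k : K, (ψ k).im = 0 := by
      refine im_of_inv hψ fun k => ?_
      obtain ⟨x, hx⟩ := real_ker M e hc hK k
      rw [← hx]
      exact Core.isIrr_isClassFunction hψ k x
    -- the inertia group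
    have hodd : Odd (K.relIndex (inertia K ψ)) := by
      refine odd_relIndex K _ fun g hg hgg => ?_
      rw [mem_inertia_iff] at hg
      by_contra hgK
      -- Clifford
      have hov' : classInner (fun n : M.subgroupOf K => ψ n) (up M (θ ∘ e) K) ≠ 0 :=
        (over_subtype_iff _ _ _).1 hov
      let γ : M.subgroupOf K ≃* M := Subgroup.subgroupOfEquivOfLe hMK
      let α : M.subgroupOf K ≃* M.subgroupOf K := (γ.trans (MulAut.conjNormal g : MulAut M)).trans γ.symm
      have hα : ∀ x, ((α x : M.subgroupOf K) : K) = ⟨g * ((x : K) : G) * g⁻¹, by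
          have hKn : K.Normal := MonoidHom.normal_ker _
          exact hKn.conj_mem _ (x : K).2 g⟩ := by
        intro x
        apply Subtype.ext
        show (((γ.symm ((MulAut.conjNormal g : MulAut M) (γ x)) : M.subgroupOf K) : K) : G) = _
        have h5 : ∀ m : M, (((γ.symm m : M.subgroupOf K) : K) : G) = m := fun m => rfl
        rw [h5, MulAut.conjNormal_apply]
        rfl
      have hβ : IsIrrCharacter (M.subgroupOf K) (up M (θ ∘ e) K ∘ α) :=
        Core.isIrr_comp (α : M.subgroupOf K →* M.subgroupOf K) α.surjective (isIrr_up M hθe hMK)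
      have hov2 : classInner (fun n : M.subgroupOf K => ψ n) (up M (θ ∘ e) K ∘ α) ≠ 0 := by
        have h6 : (fun n : M.subgroupOf K => ψ n) = (fun n : M.subgroupOf K => ψ n) ∘ α := by
          funext x
          show ψ x = ψ (α x)
          rw [hα]
          exact (hg (x : K)).symm
        rw [h6, Clifford.classInner_comp_mulEquiv α (fun n : M.subgroupOf K => ψ n) (up M (θ ∘ e) K)]
        exact hov'
      obtain ⟨k, hk⟩ := Clifford.exists_conj_of_constituents (M.subgroupOf K) hψ (isIrr_up M hθe hMK) hβ hov' hov2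
      have hffk : ff M e (g * (k : G)⁻¹) = ff M e g := by
        rw [map_mul, map_inv, MonoidHom.mem_ker.1 k.2, inv_one, mul_one]
      have hSt : g * (k : G)⁻¹ ∈ St M e θ := by
        rw [mem_St' M e]
        intro n
        obtain ⟨m, hm⟩ : ∃ m : M, (MulAut.conjNormal (k : G) : MulAut M) m = n :=
          (MulAut.conjNormal (k : G) : MulAut M).surjective n
        have h7 := congrFun hk (γ.symm m)
        have h8 : (θ ∘ e) ((MulAut.conjNormal g : MulAut M) m) = (θ ∘ e) ((MulAut.conjNormal (k : G) : MulAut M) m) := h7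
        rw [hm] at h8
        rw [← h8]
        congr 1
        apply Subtype.ext
        have h9 : (n : G) = k * m * (k : G)⁻¹ := by
          rw [← hm, MulAut.conjNormal_apply]
        show g * (k : G)⁻¹ * n * (g * (k : G)⁻¹)⁻¹ = ((MulAut.conjNormal g : MulAut M) m : G)
        rw [MulAut.conjNormal_apply, h9]
        group
      have h10 : ff M e g * ff M e g = 1 := by
        rw [← map_mul]
        exact hgg
      have h11 := hσ _ hSt (by rw [hffk]; exact h10)
      rw [hffk] at h11
      exact hgK h11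
    obtain ⟨χ, hr, hχ⟩ := exists_real_of_odd_stab K hψ hψr (inertia K ψ) (fun g => mem_inertia_iff) hodd
    exact ⟨χ, hr, over_of_over hMK hθe (Core.isIrr_isCharacter χ.2) hψ ((over_subtype_iff K _ _).2 hχ)
      ((over_subtype_of_inclusion hMK _ _).1 hov)⟩

end setup

end Cfsg.Agent.H579.RR
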