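import Cfsg.Agent.H579.RR.OddAt
import Cfsg.Agent.H664.R1.RankMore
import Cfsg.Agent.H664.R1.SplitMore
import Cfsg.Agent.H612.Deg3.Cusp

/-!
# Real characters of groups with a split BN pair of rank one, characteristic two (S4554, helper579)

* `cusp_zero` : cuspidal characters vanish at torus elements acting freely on `U`;
* `real_noncusp` : the real noncuspidal characters;
* `exists_ps_real` : a real character of degree `|U| + 1`;
* `exists_cusp_real` : a real cuspidal character of odd degree divisible by `|T₁|`.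
-/

set_option autoImplicit false
set_option linter.unusedSectionVars false

namespace Cfsg.Agent.H579.RR

open Cfsg Cfsg.Agent.Characters.Core Cfsg.Agent.OddOrderCharacters.Clifford
  Cfsg.Agent.CharactersDeep.MackeyLinear Cfsg.Agent.H664.R1
open scoped ComplexConjugate

universe u

variable {G : Type u} [Group G] [Fintype G] (D : Split G)

/-- **Cuspidal characters vanish at torus elements acting freely on `U`.** -/
theorem cusp_zero [Fintype D.U] {χ : G → ℂ} (hχ : IsIrrCharacter G χ) (h : ∑ u : D.U, χ u = 0) {t : G}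
    (ht : t ∈ D.T) (hfree : ∀ u ∈ D.U, t * u = u * t → u = 1) : χ t = 0 := by
  have h1 := H612.Deg3.Gel.sum_mul_eq_zero (isIrr_isCharacter hχ) D.U h t
  have hmem : ∀ v : D.U, t⁻¹ * (v : G) * t * (v : G)⁻¹ ∈ D.U := fun v =>
    D.U.mul_mem (D.nU' (D.TB ht) v.2) (D.U.inv_mem v.2)
  have hbij : Function.Bijective (fun v : D.U => (⟨t⁻¹ * (v : G) * t * (v : G)⁻¹, hmem v⟩ : D.U)) := by
    rw [← Finite.injective_iff_bijective]
    intro v v' hv
    have h2 : t⁻¹ * (v : G) * t * (v : G)⁻¹ = t⁻¹ * (v' : G) * t * (v' : G)⁻¹ := congrArg Subtype.val hv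
    have h3 : (v : G) * t * (v : G)⁻¹ = (v' : G) * t * (v' : G)⁻¹ := by
      have h4 := congrArg (fun z => t * z) h2
      simpa only [← mul_assoc, mul_inv_cancel, one_mul] using h4
    have h5 : t * ((v' : G)⁻¹ * v) = ((v' : G)⁻¹ * v) * t := by
      calc t * ((v' : G)⁻¹ * v) = (v' : G)⁻¹ * ((v' : G) * t * (v' : G)⁻¹) * v := by group
        _ = (v' : G)⁻¹ * ((v : G) * t * (v : G)⁻¹) * v := by rw [h3]
        _ = _ := by group
    have h6 := hfree _ (D.U.mul_mem (D.U.inv_mem v'.2) v.2) h5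
    exact (Subtype.ext (inv_mul_eq_one.1 h6)).symm
  rw [← Function.Bijective.sum_comp hbij] at h1
  have h2 : ∀ v : D.U, χ (t * ((⟨t⁻¹ * (v : G) * t * (v : G)⁻¹, hmem v⟩ : D.U) : G)) = χ t := by
    intro v
    have h3 : t * (t⁻¹ * (v : G) * t * (v : G)⁻¹) = v * t * (v : G)⁻¹ := by group
    show χ (t * (t⁻¹ * (v : G) * t * (v : G)⁻¹)) = χ t
    rw [h3]
    exact isIrr_isClassFunction hχ _ _
  rw [Finset.sum_congr rfl fun v _ => h2 v, Finset.sum_const, Finset.card_univ, nsmul_eq_mul,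
    ← Nat.card_eq_fintype_card] at h1
  exact (mul_eq_zero.1 h1).resolve_left card_ne_zero'

/-- the principal series vanishes at elements without fixed points -/
theorem ps_zero (f : D.B →* ℂˣ) {x : G} (hx : ∀ g : G, g⁻¹ * x * g ∉ D.B) : D.ps f x = 0 := by
  classical
  have := Fintype.ofFinite D.B
  rw [D.ps_def, OddOrderCharacters.Clifford.indFun_apply,
    Finset.sum_eq_zero fun g _ => ext_apply_not_mem D.B _ _ (hx g), mul_zero]

theorem eq_of_inner {χ ψ : G → ℂ} (hχ : IsIrrCharacter G χ) (hψ : IsIrrCharacter G ψ) (h : classInner χ ψ ≠ 0) :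
    χ = ψ := by
  by_contra hne
  exact h (classInner_irr_ne hχ hψ hne)

theorem ne_inv (hT : Odd (Nat.card D.T)) {f : D.B →* ℂˣ} (hf : ∀ b : D.B, (b : G) ∈ D.U → f b = 1)
    (h1 : f ≠ 1) : f ≠ f⁻¹ := by
  intro h
  apply h1
  ext b
  obtain ⟨u, hu, t, ht, hb⟩ := D.dec b b.2
  have h2 : b = ⟨u, D.UB hu⟩ * ⟨t, D.TB ht⟩ := Subtype.ext hb
  have h3 : f ⟨t, D.TB ht⟩ = 1 := by
    have h4 : f ⟨t, D.TB ht⟩ ^ 2 = 1 := by
      have h5 : f ⟨t, D.TB ht⟩ = (f ⟨t, D.TB ht⟩)⁻¹ := DFunLike.congr_fun h _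
      rw [sq]
      nth_rw 2 [h5]
      exact mul_inv_cancel _
    have h5 : f ⟨t, D.TB ht⟩ ^ Nat.card D.T = 1 := by
      rw [← map_pow]
      have h6 : (⟨t, D.TB ht⟩ : D.B) ^ Nat.card D.T = 1 := by
        apply Subtype.ext
        have h7 : (⟨t, ht⟩ : D.T) ^ Nat.card D.T = 1 := pow_card_eq_one'
        have h8 : t ^ Nat.card D.T = 1 := congrArg Subtype.val h7
        exact h8
      rw [h6, map_one]
    obtain ⟨k, hk⟩ := hT
    rw [hk, pow_succ, pow_mul, h4, one_pow, one_mul] at h5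
    exact h5
  rw [h2, map_mul, hf _ hu, h3, mul_one]
  rfl

/-- **Real noncuspidal characters.** -/
theorem real_noncusp [Fintype D.U] (hT : Odd (Nat.card D.T)) {χ : G → ℂ} (hχ : IsIrrCharacter G χ)
    (hr : ∀ g, (χ g).im = 0) (h : classInner (fun u : D.U => χ u) 1 ≠ 0) :
    χ = 1 ∨ χ 1 = (Nat.card D.U : ℂ) ∨ ∃ f : D.B →* ℂˣ, χ = D.ps f := by
  classical
  have := Fintype.ofFinite D.B
  obtain ⟨f, hf, hfχ⟩ := D.exists_ps hχ h
  by_cases hinv : ∃ t, ∃ ht : t ∈ D.T, f ⟨t, D.TB ht⟩ ≠ f ⟨D.w⁻¹ * t * D.w, D.TB (D.wT t ht)⟩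
  · exact Or.inr (Or.inr ⟨f, (eq_of_inner (D.isIrr_ps f hinv) hχ hfχ).symm⟩)
  · push Not at hinv
    by_cases h1 : f = 1
    · obtain ⟨St, hSt⟩ := D.exists_steinberg
      rw [h1, hSt, classInner_add_left] at hfχ
      by_cases h2 : classInner (1 : G → ℂ) χ = 0
      · rw [h2, zero_add] at hfχ
        have h3 := eq_of_inner St.2 hχ hfχ
        right; left
        have h4 := congrFun hSt 1
        rw [D.ps_one, Pi.add_apply, Pi.one_apply, h3] at h4
        linear_combination -h4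
      · exact Or.inl (eq_of_inner isIrr_one hχ h2).symm
    · exfalso
      -- the conjugate linear character
      have hconj : classInner (D.ps f⁻¹) χ ≠ 0 := by
        rw [D.inner_ps f⁻¹ hχ]
        rw [D.inner_ps f hχ] at hfχ
        have h2 : (fun b : D.B => (((f⁻¹ : D.B →* ℂˣ) b : ℂˣ) : ℂ)) = fun b => conj ((f b : ℂˣ) : ℂ) := by
          funext b
          have h3 : ((f b : ℂˣ) : ℂ) * conj ((f b : ℂˣ) : ℂ) = 1 := mul_conj_hom f b
          have h4 : (((f⁻¹ : D.B →* ℂˣ) b : ℂˣ) : ℂ) * ((f b : ℂˣ) : ℂ) = 1 := by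
            rw [MonoidHom.inv_apply, ← Units.val_mul, inv_mul_cancel, Units.val_one]
          calc (((f⁻¹ : D.B →* ℂˣ) b : ℂˣ) : ℂ) =
              (((f⁻¹ : D.B →* ℂˣ) b : ℂˣ) : ℂ) * (((f b : ℂˣ) : ℂ) * conj ((f b : ℂˣ) : ℂ)) := by rw [h3, mul_one]
            _ = conj ((f b : ℂˣ) : ℂ) := by rw [← mul_assoc, h4, one_mul]
        have h3 : classInner (fun b : D.B => conj ((f b : ℂˣ) : ℂ)) (fun b : D.B => χ b) =
            conj (classInner (fun b : D.B => ((f b : ℂˣ) : ℂ)) (fun b : D.B => χ b)) := by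
          rw [classInner_def, classInner_def, map_mul, map_inv₀, Complex.conj_natCast, map_sum]
          congr 1
          refine Finset.sum_congr rfl fun b _ => ?_
          rw [map_mul, Complex.conj_conj, Complex.conj_eq_iff_im.2 (hr b)]
        rw [h2, h3]
        exact fun h4 => hfχ ((map_eq_zero _).1 h4)
      have hfinv : ∀ b : D.B, (b : G) ∈ D.U → (f⁻¹ : D.B →* ℂˣ) b = 1 := fun b hb => by
        rw [MonoidHom.inv_apply, hf b hb, inv_one]
      have hnat : ∀ ψ : IrrCharacter G, ∃ k : ℕ, classInner (fun u : D.U => (ψ : G → ℂ) u) 1 = k := fun ψ =>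
        classInner_isNat (isCharacter_comp D.U.subtype (isIrr_isCharacter ψ.2)) isCharacter_one
      have h2k : ∀ k : ℕ, classInner (fun u : D.U => χ u) 1 = k → 2 ≤ k := fun k hk =>
        D.two_le hf hfinv (ne_inv D hT hf h1) hχ hfχ hconj hk
      obtain ⟨χa, χb, hne, hab⟩ := exists_two (D.isCharacter_ps f) (D.norm_ps f hinv)
      obtain ⟨ka, hka⟩ := hnat χa
      obtain ⟨kb, hkb⟩ := hnat χb
      have hsum : ka + kb = 2 := by
        have h3 := D.inner_U_one f hf
        rw [hab] at h3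
        have h4 := D.inner_add_U (χa : G → ℂ) (χb : G → ℂ) 1
        rw [h3, hka, hkb] at h4
        exact_mod_cast h4.symm
      have hia : classInner (D.ps f) (χa : G → ℂ) ≠ 0 := by
        rw [hab, classInner_add_left, classInner_irr_self χa.2,
          classInner_irr_ne χb.2 χa.2 (fun h3 => hne (Subtype.ext h3.symm)), add_zero]
        exact one_ne_zero
      have hib : classInner (D.ps f) (χb : G → ℂ) ≠ 0 := by
        rw [hab, classInner_add_left, classInner_irr_self χb.2,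
          classInner_irr_ne χa.2 χb.2 (fun h3 => hne (Subtype.ext h3)), zero_add]
        exact one_ne_zero
      have hka0 : ka ≠ 0 := by
        have h3 := D.inner_ne_zero f hf χa.2 hia
        rw [hka] at h3
        exact_mod_cast h3
      have hkb0 : kb ≠ 0 := by
        have h3 := D.inner_ne_zero f hf χb.2 hib
        rw [hkb] at h3
        exact_mod_cast h3
      have hor : (χa : G → ℂ) = χ ∨ (χb : G → ℂ) = χ := by
        rw [hab, classInner_add_left] at hfχ
        by_cases h3 : classInner (χa : G → ℂ) χ = 0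
        · rw [h3, zero_add] at hfχ
          exact Or.inr (eq_of_inner χb.2 hχ hfχ)
        · exact Or.inl (eq_of_inner χa.2 hχ h3)
      rcases hor with h3 | h3
      · have h4 := h2k ka (by rw [← h3]; exact hka)
        omega
      · have h4 := h2k kb (by rw [← h3]; exact hkb)
        omega

theorem charDegree_cast {χ : G → ℂ} (hχ : IsIrrCharacter G χ) {n : ℕ} (h : χ 1 = n) : charDegree χ = n := by
  have h1 := Cfsg.Agent.Blocks.Basic.irr_one_eq_charDegree hχ
  rw [h] at h1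
  exact_mod_cast h1.symm

/-- **A real character of degree `|U| + 1`.** -/
theorem exists_ps_real (hT : Odd (Nat.card D.T)) (hU : Even (Nat.card D.U)) {y : G} (hy : y ∈ D.T)
    (hfree : ∀ u ∈ D.U, y * u = u * y → u = 1) (hy1 : y ≠ 1) (hreal : IsConj y y⁻¹) :
    ∃ χ : IrrCharacter G, (∀ g, ((χ : G → ℂ) g).im = 0) ∧ charDegree (χ : G → ℂ) = Nat.card D.U + 1 := by
  classical
  have := Fintype.ofFinite D.U
  obtain ⟨χ, hr, ho, hn, hv⟩ := exists_odd_at_real hy1 hreal
  have h1 : classInner (fun u : D.U => (χ : G → ℂ) u) 1 ≠ 0 := by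
    intro h2
    rw [← noFix_iff_inner, noFix_iff] at h2
    exact hv (cusp_zero D χ.2 h2 hy hfree)
  refine ⟨χ, hr, ?_⟩
  rcases real_noncusp D hT χ.2 hr h1 with h2 | h2 | ⟨f, h2⟩
  · exact absurd h2 hn
  · exfalso
    rw [charDegree_cast χ.2 h2] at ho
    exact Nat.not_even_iff_odd.2 ho hU
  · apply charDegree_cast χ.2
    rw [h2, D.ps_one]
    push_cast
    ring

/-- **A real cuspidal character of odd degree.** -/
theorem exists_cusp_real (hT : Odd (Nat.card D.T)) (hU : Even (Nat.card D.U)) {x : G}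
    (hx : ∀ g : G, g⁻¹ * x * g ∉ D.B) (hreal : IsConj x x⁻¹) (T1 : Subgroup G) (hT1 : T1 ≤ D.T)
    (hfree : ∀ t ∈ T1, t ≠ 1 → ∀ u ∈ D.U, t * u = u * t → u = 1) :
    ∃ χ : IrrCharacter G, (∀ g, ((χ : G → ℂ) g).im = 0) ∧ Odd (charDegree (χ : G → ℂ)) ∧ (χ : G → ℂ) ≠ 1 ∧
      Nat.card T1 ∣ charDegree (χ : G → ℂ) := by
  classical
  have := Fintype.ofFinite D.U
  have := Fintype.ofFinite T1
  have hx1 : x ≠ 1 := by
    rintro rfl
    apply hx 1
    rw [inv_one, one_mul, mul_one]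
    exact D.B.one_mem
  obtain ⟨χ, hr, ho, hn, hv⟩ := exists_odd_at_real hx1 hreal
  have h1 : ∑ u : D.U, (χ : G → ℂ) u = 0 := by
    by_contra h2
    have h3 : classInner (fun u : D.U => (χ : G → ℂ) u) 1 ≠ 0 := by
      intro h4
      rw [← noFix_iff_inner, noFix_iff] at h4
      exact h2 h4
    rcases real_noncusp D hT χ.2 hr h3 with h2 | h2 | ⟨f, h2⟩
    · exact hn h2
    · rw [charDegree_cast χ.2 h2] at ho
      exact Nat.not_even_iff_odd.2 ho hU
    · apply hv
      rw [h2]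
      exact ps_zero D f hx
  refine ⟨χ, hr, ho, hn, ?_⟩
  obtain ⟨m, hm⟩ := classInner_isNat (isCharacter_comp T1.subtype (isIrr_isCharacter χ.2)) (isCharacter_one (G := T1))
  have h2 : ∑ t : T1, (χ : G → ℂ) t = (χ : G → ℂ) 1 := by
    rw [Finset.sum_eq_single (1 : T1)]
    · rfl
    · intro t _ ht
      exact cusp_zero D χ.2 h1 (hT1 t.2) (hfree t t.2 fun h => ht (Subtype.ext h))
    · intro h
      exact absurd (Finset.mem_univ _) h
  rw [classInner_def] at hm
  have h3 : ∑ g : T1, ((χ : G → ℂ) ∘ T1.subtype) g * conj ((1 : T1 → ℂ) g) = (χ : G → ℂ) 1 := by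
    rw [← h2]
    refine Finset.sum_congr rfl fun g _ => ?_
    rw [Pi.one_apply, map_one, mul_one]
    rfl
  rw [h3, Cfsg.Agent.Blocks.Basic.irr_one_eq_charDegree χ.2] at hm
  have h4 : (charDegree (χ : G → ℂ) : ℂ) = ((Nat.card T1 * m : ℕ) : ℂ) := by
    push_cast
    rw [← hm, mul_inv_cancel_left₀ card_ne_zero']
  exact ⟨m, by exact_mod_cast h4⟩

end Cfsg.Agent.H579.RR
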