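import Cfsg.Agent.H619.R4.SporBase

/-!
# A criterion for rows with `|Out| ≤ 2` (S4554, helper579)

A prime `p ∥ |S|`, an element of order `p` with centralizer of order `p`, conjugate to all its nontrivial powers by
Sylow's theorem, and a real irreducible character of odd degree divisible by `p`.
-/

set_option autoImplicit false

open Cfsg

namespace Cfsg.Agent.H579.R4

open Cfsg.Agent.H619.R4

universe u

theorem not_comm_of_even {S : Type*} [Group S] [Finite S] [IsSimpleGroup S] {n : ℕ} (hc : Nat.card S = n)
    (h2 : 2 ∣ n) (h : 2 < n) : ¬ IsMulCommutative S := by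
  intro hcomm
  let _ : CommGroup S := { (inferInstance : Group S) with mul_comm := fun a b => hcomm.is_comm.comm a b }
  have hp : (Nat.card S).Prime := IsSimpleGroup.prime_card
  rw [hc] at hp
  rcases hp.eq_one_or_self_of_dvd 2 h2 with h | h <;> omega

theorem row_of_self {S : Type u} [Group S] [Finite S] [IsSimpleGroup S] {T : Type*} [Group T] [Finite T] (e : S ≃* T)
    {n : ℕ} (hc : Nat.card T = n) (h2 : 2 ∣ n) (hn : 2 < n)
    (hout : (MulAut.conj : T →* MulAut T).range.index ≤ 2) {p : ℕ} [hp : Fact p.Prime] (hp2 : p ≠ 2)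
    (hS : n.factorization p = 1) {x : T} (hx : orderOf x = p)
    (hcent : Nat.card (Subgroup.centralizer ({x} : Set T)) = p) (he : n / p % p = p - 1) {d : ℕ} (hd : RC T d)
    (hod : Odd d) (hpd : p ∣ d) : Row S := by
  subst hc
  have hcS : Nat.card S = Nat.card T := Nat.card_congr e.toEquiv
  refine row_two_prime (not_comm_of_even hcS h2 hn) (by rw [index_congr e]; exact hout) hp2 (by rw [hcS]; exact hS)
    (x := e.symm x) (by rw [MulEquiv.orderOf_eq, hx]) (fun j hj => ?_) (hd.congr e.symm) hod hpd
  rw [← map_pow]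
  exact MonoidHom.map_isConj e.symm.toMonoidHom
    (H713.Two.Sing.isConj_pow_of_full hx (H713.Two.Sing.card_fus_eq hS hx hcent he) hj)

end Cfsg.Agent.H579.R4
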