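import Cfsg.Agent.H579.RR.SporPrime
import Cfsg.Agent.H619.R4.RankTab
import Cfsg.Agent.H348.PPD.RowSuz
import Cfsg.Agent.NotCT.Orders
import Cfsg.Agent.S1680
import Cfsg.Agent.S2074

/-!
# The row `Suz` of S4554 (helper579)
-/

set_option autoImplicit false

open Cfsg

namespace Cfsg.Agent.H579.R4

open Cfsg.Agent.H619.R4 Cfsg.Agent.H690.Spor

universe u

/-- **The row `Suz`** (`Suz` and `Suz.2`). -/
theorem row_suz {S : Type u} [Group S] [Finite S] [IsSimpleGroup S] (h : Spor.IsoSuz S) : H619.R4.Row S := by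
  obtain ⟨e⟩ := h
  have hc : Nat.card Spor.Suz = 448345497600 := Cfsg.Agent.NotCT.Orders.suz (K := Spor.Suz) ⟨MulEquiv.refl _⟩
  have : Finite Spor.Suz := Nat.finite_of_card_ne_zero (by rw [hc]; norm_num)
  have hp : Fact (Nat.Prime 11) := ⟨by norm_num⟩
  obtain ⟨hi, q₁, q₂, h1, h2⟩ := Cfsg.Agent.S1680.result
  obtain ⟨R, hR⟩ := RankThree.R3.of_index _ (by rw [hi]) h1 h2 (by norm_num) (by norm_num) (by norm_num)
  have hrc := rc_suz hR
  obtain ⟨x, hxo, hx⟩ := Cfsg.Agent.H348.PPD.RowSuz.cent11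
  have hout : (MulAut.conj : Spor.Suz →* MulAut Spor.Suz).range.index = 2 := Cfsg.Agent.S2074.result
  refine row_of_self e hc (by norm_num) (by norm_num) (by rw [hout]) (p := 11) (by norm_num) ?_ hxo hx (by norm_num)
    hrc.2 (by decide) (by norm_num)
  rw [show (448345497600 : ℕ) = 11 * 40758681600 by norm_num, Nat.factorization_mul (by norm_num) (by norm_num),
    Finsupp.add_apply, (by norm_num : Nat.Prime 11).factorization_self,
    Nat.factorization_eq_zero_of_not_dvd (by norm_num)]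

end Cfsg.Agent.H579.R4
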