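import Cfsg.Agent.H579.RR.OddAt
import Cfsg.Agent.H740.FiveSz
import Cfsg.Agent.H680.GowSz

/-!
# The groups with socle `Sz(q)` (S4554, helper579)
-/

set_option autoImplicit false
set_option linter.unusedSectionVars false

namespace Cfsg.Agent.H579.RR

open Cfsg Cfsg.Agent.Characters Cfsg.Agent.H619.R4 Cfsg.Agent.H686.CharKit
open Cfsg.Agent.ThreePrime
open scoped ComplexConjugate

universe u

/-- the degree of an irreducible character -/
theorem mem_cd' {S : Type u} [Group S] [Finite S] (χ : IrrCharacter S) :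
    charDegree (χ : S → ℂ) ∈ Cfsg.charDegrees S :=
  ⟨χ, rfl⟩

theorem r3_sz {G : Type u} [Group G] [Finite G] (M : Subgroup G) [hM : M.Normal]
    (hc : Subgroup.centralizer (M : Set G) = ⊥) (h : Cfsg.Lie.IsoSuzuki M) : R3 G M := by
  classical
  have h0 := h
  obtain ⟨F, iF, iF', m, hm, hF, ⟨e⟩⟩ := h
  have hidx : M.index ∣ 2 * m + 1 := by
    have h1 := H740.FiveBase.index_dvd_out M hM hc
    rw [H55.OutGen.card_out_congr e, S2126.result hm hF] at h1
    exact h1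
  -- simple
  have hs0 : IsSimpleGroup ↥(Cfsg.Lie.Sz F (2 ^ (m + 1))) := Cfsg.Agent.S1162.result hm hF
  have hs : IsSimpleGroup M := (MulEquiv.isSimpleGroup_congr e).2 hs0
  -- the real element of order five
  obtain ⟨P⟩ : Nonempty (Sylow 2 M) := inferInstance
  obtain ⟨y, s, hy1, -, hy5, -, -, -, -, hsy, -⟩ := OddCyclic.T1SzFacts.exists_five h0 P
  have hyreal : IsConj y y⁻¹ := by
    rw [isConj_iff]
    refine ⟨s * s, ?_⟩
    have h1 : s * s * y * (s * s)⁻¹ = s * (s * y * s⁻¹) * s⁻¹ := by group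
    rw [h1, hsy, ← conj_pow, hsy, ← pow_mul]
    rw [eq_inv_iff_mul_eq_one, ← pow_succ, orderOf_dvd_iff_pow_eq_one.1]
    rw [hy5]
    norm_num
  have hna : s * y ≠ y * s := by
    intro h1
    have h2 : s * y * s⁻¹ = y := by rw [h1, mul_inv_cancel_right]
    rw [hsy] at h2
    have h3 : y ^ 2 = 1 := by
      have h4 : y ^ 3 = y ^ 2 * y := pow_succ y 2
      rw [h4] at h2
      exact mul_eq_right.1 h2
    have h4 := orderOf_dvd_of_pow_eq_one h3
    rw [hy5] at h4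
    omega
  have hperf := perfect_of_simple hna
  -- arithmetic
  obtain ⟨n, rfl⟩ : ∃ n, m = n + 1 := ⟨m - 1, by omega⟩
  obtain ⟨k, hk⟩ : ∃ k, k = 2 ^ n := ⟨_, rfl⟩
  have hk1 : n + 1 ≤ k := hk ▸ Nat.lt_two_pow_self
  have hkk : k ≤ k ^ 2 := Nat.le_self_pow two_ne_zero k
  obtain ⟨t, ht⟩ : ∃ t, t + 1 = 8 * k ^ 2 := ⟨8 * k ^ 2 - 1, by omega⟩
  obtain ⟨a, ha⟩ : ∃ a, a = 8 * k ^ 2 + 4 * k + 1 := ⟨_, rfl⟩
  obtain ⟨b, hb⟩ : ∃ b, b + 4 * k = 8 * k ^ 2 + 1 := ⟨8 * k ^ 2 + 1 - 4 * k, by omega⟩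
  have hdeg := H678.SuzGraph.mem_charDegrees hm hF ⟨e⟩ k t a b (by rw [hk]; rfl) ht ha hb
  have hq : 2 ^ (2 * (n + 1) + 1) = 8 * k ^ 2 := by
    rw [hk, ← pow_mul, show (8 : ℕ) = 2 ^ 3 by norm_num, ← pow_add]
    congr 1
    ring
  have hab : a * b = 64 * k ^ 4 + 1 := by
    zify
    have hbz : (b : ℤ) = 8 * k ^ 2 + 1 - 4 * k := by
      have : ((b + 4 * k : ℕ) : ℤ) = ((8 * k ^ 2 + 1 : ℕ) : ℤ) := by rw [hb]
      push_cast at this
      linarith
    have haz : (a : ℤ) = 8 * k ^ 2 + 4 * k + 1 := by rw [ha]; push_cast; ring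
    rw [haz, hbz]
    ring
  have hcard : Nat.card M = 64 * k ^ 4 * (64 * k ^ 4 + 1) * t := by
    rw [Nat.card_congr (e.trans (H680.GowSz.iso hm hF).symm).toEquiv, S0324.result hm hF, hq]
    have : 8 * k ^ 2 - 1 = t := by omega
    rw [this]
    ring
  have hto : Odd t := by
    rw [← Nat.not_even_iff_odd]
    rintro ⟨r, hr⟩
    omega
  have hao : Odd a := ⟨4 * k ^ 2 + 2 * k, by omega⟩
  have hk4 : 64 * k ^ 4 = 2 * (32 * k ^ 4) := by ring
  have hk0 : 1 ≤ k ^ 4 := Nat.one_le_pow _ _ (by omega)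
  -- the Steinberg character
  have h2M : 2 ∣ Nat.card M := by
    rw [hcard]
    exact Dvd.dvd.mul_right (Dvd.dvd.mul_right ⟨32 * k ^ 4, by ring⟩ _) _
  have hSt := rd_lie M Nat.prime_two (by
    unfold IsLieTypeChar
    exact Or.inr (Or.inr (Or.inr (Or.inr (Or.inr (Or.inr (Or.inr (Or.inr (Or.inl ⟨rfl, h0⟩))))))))) h2M
  have hStE : Even (2 ^ (Nat.card M).factorization 2) := by
    refine (Nat.even_pow.2 ⟨even_two, ?_⟩)
    exact (Nat.prime_two.factorization_pos_of_dvd Nat.card_pos.ne' h2M).ne'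
  -- the degrees
  have hodd : ∀ χ : IrrCharacter M, (χ : M → ℂ) ≠ 1 → Odd (charDegree (χ : M → ℂ)) →
      charDegree (χ : M → ℂ) = 64 * k ^ 4 + 1 ∨ charDegree (χ : M → ℂ) = t * a ∨ charDegree (χ : M → ℂ) = t * b := by
    intro χ hχ1 hχo
    have h1 := (hdeg _).1 (mem_cd' χ)
    rcases h1 with h1 | h1 | h1 | h1 | h1 | h1
    · exact absurd (eq_one_of_perfect hperf χ.2 h1) hχ1
    · exfalso
      rw [h1, hk4] at hχo
      exact Nat.not_even_iff_odd.2 hχo (even_two_mul _)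
    · exact Or.inl h1
    · exact Or.inr (Or.inl h1)
    · exact Or.inr (Or.inr h1)
    · exfalso
      rw [h1] at hχo
      exact Nat.not_even_iff_odd.2 hχo ((even_two_mul _).mul_left _)
  -- the first character
  obtain ⟨χ2, hr2, ho2, hn2, hv2⟩ := exists_odd_at_real hy1 hyreal
  have h5q : ¬ 5 ∣ t := by
    have := H680.GowSz.five_ndvd (n + 1)
    rw [hq] at this
    have h1 : 8 * k ^ 2 - 1 = t := by omega
    rwa [h1] at this
  have h5k : ¬ 5 ∣ 64 * k ^ 4 := by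
    intro h1
    rw [hk, ← pow_mul, show (64 : ℕ) = 2 ^ 6 by norm_num, ← pow_add] at h1
    have := Nat.Prime.dvd_of_dvd_pow Nat.prime_five h1
    norm_num at this
  have hd2 : t ∣ charDegree (χ2 : M → ℂ) := by
    rcases hodd χ2 hn2 ho2 with h1 | h1 | h1
    · exfalso
      apply hv2
      refine vanish χ2 Nat.prime_five (c := 64 * k ^ 4 * t) (by rw [h1, hcard]; ring) ?_ (by rw [hy5])
      intro h2
      rcases (Nat.Prime.dvd_mul Nat.prime_five).1 h2 with h3 | h3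
      · exact h5k h3
      · exact h5q h3
    · rw [h1]; exact dvd_mul_right _ _
    · rw [h1]; exact dvd_mul_right _ _
  -- the second character
  obtain ⟨r, hrp, hrt⟩ := Nat.exists_prime_and_dvd (n := t) (by omega)
  have : Fact r.Prime := ⟨hrp⟩
  obtain ⟨z, hz⟩ := exists_prime_orderOf_dvd_card' (G := Fˣ) r (by
    rw [Nat.card_eq_fintype_card, Fintype.card_units, hF, hq]
    have h1 : 8 * k ^ 2 - 1 = t := by omega
    rw [h1]
    exact hrt)
  let R : SzRel.Rel M F := (SzRel.ofGood (LieRecognition.SzMatrix.good hF)).map e.symm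
  have hd1 : R.d 1 = 1 := by
    have h1 := R.d_mul 1 1
    rw [mul_one] at h1
    exact mul_eq_left.1 h1
  have hdz1 : R.d z ≠ 1 := by
    intro h1
    have h2 : R.u 0 0 * R.d z = R.u 0 0 * R.d 1 := by rw [h1, hd1]
    have h3 := (R.ud_inj h2).2.2
    rw [h3, orderOf_one] at hz
    exact hrp.one_lt.ne hz
  let dh : Fˣ →* M := { toFun := R.d, map_one' := hd1, map_mul' := fun k l => (R.d_mul k l).symm }
  have hdzo : r ∣ orderOf (R.d z) := by
    have h1 : (R.d z) ^ r = 1 := by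
      have h2 : dh (z ^ r) = 1 := by rw [← hz, pow_orderOf_eq_one, map_one]
      rw [map_pow] at h2
      exact h2
    rw [orderOf_eq_prime h1 hdz1]
  have hdzr : IsConj (R.d z) (R.d z)⁻¹ := by
    rw [isConj_iff]
    refine ⟨R.w, ?_⟩
    rw [R.w_mul_d, mul_inv_cancel_right, eq_inv_iff_mul_eq_one, R.d_mul, inv_mul_cancel, hd1]
  obtain ⟨χ1, hr1, ho1, hn1, hv1⟩ := exists_odd_at_real hdz1 hdzr
  have hro : ¬ r ∣ 2 := by
    intro h1
    have h2 : r = 2 := (Nat.prime_dvd_prime_iff_eq hrp Nat.prime_two).1 h1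
    rw [h2] at hrt
    exact Nat.not_even_iff_odd.2 hto (even_iff_two_dvd.2 hrt)
  have hrk : ¬ r ∣ 64 * k ^ 4 := by
    intro h1
    apply hro
    rw [hk, ← pow_mul, show (64 : ℕ) = 2 ^ 6 by norm_num, ← pow_add] at h1
    exact hrp.dvd_of_dvd_pow h1
  have hrk1 : ¬ r ∣ 64 * k ^ 4 + 1 := by
    intro h1
    have h3 : 64 * k ^ 4 + 1 = t * (t + 2) + 2 := by
      calc 64 * k ^ 4 + 1 = (8 * k ^ 2) ^ 2 + 1 := by ring
        _ = (t + 1) ^ 2 + 1 := by rw [ht]
        _ = _ := by ring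
    rw [h3] at h1
    exact hro ((Nat.dvd_add_right (hrt.mul_right _)).1 h1)
  have hd1 : charDegree (χ1 : M → ℂ) = 64 * k ^ 4 + 1 := by
    rcases hodd χ1 hn1 ho1 with h1 | h1 | h1
    · exact h1
    · exfalso
      apply hv1
      refine vanish χ1 hrp (c := 64 * k ^ 4 * b) (by rw [h1, hcard, ← hab]; ring) ?_ hdzo
      intro h2
      rcases hrp.dvd_mul.1 h2 with h3 | h3
      · exact hrk h3
      · exact hrk1 (hab ▸ h3.mul_left a)
    · exfalso
      apply hv1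
      refine vanish χ1 hrp (c := 64 * k ^ 4 * a) (by rw [h1, hcard, ← hab]; ring) ?_ hdzo
      intro h2
      rcases hrp.dvd_mul.1 h2 with h3 | h3
      · exact hrk h3
      · exact hrk1 (hab ▸ h3.mul_right b)
  -- the characters of `G`
  obtain ⟨c1, hc1, hc1i, hR1⟩ := rd_odd_deg M hperf χ1.2 hr1 ho1 hn1
  obtain ⟨c2, hc2, hc2i, hR2⟩ := rd_odd_deg M hperf χ2.2 hr2 ho2 hn2
  have hoc : ∀ c, c ∣ M.index → Odd c := by
    intro c hc
    have h1 : Odd (2 * (n + 1) + 1) := ⟨n + 1, rfl⟩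
    exact Odd.of_dvd_nat h1 (hc.trans hidx)
  have hO1 := ho1.mul (hoc c1 hc1i)
  have hO2 := ho2.mul (hoc c2 hc2i)
  refine ⟨_, _, _, ?_, ?_, ?_, hSt, hR1, hR2⟩
  · intro h1
    rw [← h1] at hO1
    exact Nat.not_even_iff_odd.2 hO1 hStE
  · intro h1
    rw [← h1] at hO2
    exact Nat.not_even_iff_odd.2 hO2 hStE
  · intro h1
    have h2 : t ∣ (64 * k ^ 4 + 1) * c1 := by
      rw [← hd1, h1]
      exact hd2.mul_right _
    have h3 : 64 * k ^ 4 + 1 = t * (t + 2) + 2 := by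
      calc 64 * k ^ 4 + 1 = (8 * k ^ 2) ^ 2 + 1 := by ring
        _ = (t + 1) ^ 2 + 1 := by rw [ht]
        _ = _ := by ring
    have h4 : (64 * k ^ 4 + 1) * c1 = t * ((t + 2) * c1) + 2 * c1 := by rw [h3]; ring
    rw [h4] at h2
    have h5 : t ∣ 2 * c1 := (Nat.dvd_add_right (dvd_mul_right _ _)).1 h2
    have h6 : Nat.Coprime t 2 := Nat.Coprime.symm (Nat.coprime_two_left.2 hto)
    have h7 : t ∣ c1 := h6.dvd_of_dvd_mul_left h5
    have h8 := Nat.le_of_dvd hc1 h7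
    have h9 := Nat.le_of_dvd (by omega) (hc1i.trans hidx)
    omega

end Cfsg.Agent.H579.RR

namespace Cfsg.Agent.H579.R4

open Cfsg Cfsg.Agent.H619.R4

universe u

/-- **Three real degrees: `Sz(q)`.** -/
theorem row_sz {S : Type u} [Group S] (h : Cfsg.Lie.IsoSuzuki S) : Row S := by
  intro G _ _ N _ ⟨f⟩ hC _
  obtain ⟨F, iF, iF', m, hm, hF, ⟨e⟩⟩ := h
  exact RR.r3_sz N hC ⟨F, iF, iF', m, hm, hF, ⟨f.symm.trans e⟩⟩

end Cfsg.Agent.H579.R4
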