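import Cfsg.Agent.H579.RR.SplitReal
import Cfsg.Agent.H664.R1.U3Iso

/-!
# Real characters of `PSU(3,q)`, `q` even (S4554, helper579)

* `exists_ps_u3` : a real irreducible character of degree `q³ + 1`;
* `exists_cusp_u3` : a nontrivial real irreducible character of odd degree divisible by `q - 1`.
-/

set_option autoImplicit false
set_option linter.unusedSectionVars false
set_option linter.unusedSimpArgs false

namespace Cfsg.Agent.H579.RR

open Matrix Cfsg Cfsg.Agent.LieRecognition.PSUThreeSylow Cfsg.Agent.LieClassical.HermBasic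
open Cfsg.Agent.H664.R1 Cfsg.Agent.H664.R1.U3
open scoped ComplexConjugate

section general

variable {F : Type*} [Field F] {σ : F →+* F} [hσ : Fact (∀ x, σ (σ x) = x)]

/-- the diagonal elements -/
theorem dg1_mem {t : F} (ht : t ≠ 0) (h : σ t = t) :
    dg t 1 ht (by rw [map_one, mul_one]) ∈ SUs σ := by
  rw [mem_SUs, mat_dg, Matrix.det_fin_three]
  simp
  rw [h]
  field_simp

theorem fix_of_ker {q : ℕ} (hq : 1 ≤ q) (hs : ∀ x, σ x = x ^ q) (t : (powMonoidHom (q - 1) : Fˣ →* Fˣ).ker) :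
    σ ((t : Fˣ) : F) = ((t : Fˣ) : F) := by
  have h1 := t.2
  rw [MonoidHom.mem_ker, powMonoidHom_apply] at h1
  have h3 : ((t : Fˣ) : F) ^ (q - 1) = 1 := by
    rw [← Units.val_pow_eq_pow_val, h1, Units.val_one]
  rw [hs]
  calc ((t : Fˣ) : F) ^ q = ((t : Fˣ) : F) ^ (q - 1 + 1) := by
        rw [Nat.sub_add_cancel hq]
    _ = _ := by rw [pow_succ, h3, one_mul]

/-- the torus of order `q - 1` -/
def del {q : ℕ} (hq : 1 ≤ q) (hs : ∀ x, σ x = x ^ q) : (powMonoidHom (q - 1) : Fˣ →* Fˣ).ker →* S σ where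
  toFun t := ⟨pr σ (dg ((t : Fˣ) : F) 1 (Units.ne_zero _) (by rw [map_one, mul_one])),
    _, dg1_mem (Units.ne_zero _) (fix_of_ker hq hs t), rfl⟩
  map_one' := by
    apply Subtype.ext
    show pr σ _ = 1
    have h : dg (((1 : (powMonoidHom (q - 1) : Fˣ →* Fˣ).ker) : Fˣ) : F) 1 (Units.ne_zero _)
        (by rw [map_one, mul_one]) = (1 : GUJ σ) := by
      apply mat_inj
      rw [mat_dg, mat_one]
      ext i j
      fin_cases i <;> fin_cases j <;> simp
    rw [h, map_one]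
  map_mul' s t := by
    apply Subtype.ext
    show pr σ _ = pr σ _ * pr σ _
    rw [← map_mul, dg_mul]
    congr 1
    apply mat_inj
    rw [mat_dg, mat_dg]
    simp

theorem coe_del {q : ℕ} (hq : 1 ≤ q) (hs : ∀ x, σ x = x ^ q) (t : (powMonoidHom (q - 1) : Fˣ →* Fˣ).ker) :
    ((del hq hs t : S σ) : PG σ) = pr σ (dg ((t : Fˣ) : F) 1 (Units.ne_zero _) (by rw [map_one, mul_one])) := rfl

theorem del_mem {q : ℕ} (hq : 1 ≤ q) (hs : ∀ x, σ x = x ^ q) (t : (powMonoidHom (q - 1) : Fˣ →* Fˣ).ker) :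
    del hq hs t ∈ (spS σ).T := ⟨_, dg_mem _ _ _ _, rfl⟩

theorem del_inj {q : ℕ} (hq : 1 ≤ q) (hs : ∀ x, σ x = x ^ q) : Function.Injective (del (σ := σ) hq hs) := by
  rw [injective_iff_map_eq_one]
  intro t ht
  have h1 : pr σ (dg ((t : Fˣ) : F) 1 (Units.ne_zero _) (by rw [map_one, mul_one])) = 1 :=
    congrArg (fun z : S σ => (z : PG σ)) ht
  have h2 := (QuotientGroup.eq_one_iff _).1 h1
  rw [mem_Sc] at h2
  have h3 := h2.2.1
  rw [mat_dg] at h3
  have h4 : ((t : Fˣ) : F) = 1 := by simpa using h3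
  exact Subtype.ext (Units.ext h4)

theorem del_conj {q : ℕ} (hq : 1 ≤ q) (hs : ∀ x, σ x = x ^ q) (t : (powMonoidHom (q - 1) : Fˣ →* Fˣ).ker) :
    (spS σ).w⁻¹ * del hq hs t * (spS σ).w = (del hq hs t)⁻¹ := by
  rw [← map_inv]
  apply Subtype.ext
  rw [coe_del]
  refine (w_conj_S ((t : Fˣ) : F) 1 (Units.ne_zero _) (by rw [map_one, mul_one])
    (del hq hs t).2).trans ?_
  congr 1
  apply mat_inj
  rw [mat_dg, mat_dg]
  have h1 := fix_of_ker (σ := σ) hq hs t
  ext i j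
  fin_cases i <;> fin_cases j <;> simp [h1]

/-- the torus acts freely on `U`, characteristic two -/
theorem del_free {q : ℕ} (hq : 1 ≤ q) (hs : ∀ x, σ x = x ^ q) (h2 : (2 : F) = 0)
    (t : (powMonoidHom (q - 1) : Fˣ →* Fˣ).ker) (ht : t ≠ 1) (u : S σ) (hu : u ∈ (spS σ).U)
    (h : del hq hs t * u = u * del hq hs t) : u = 1 := by
  obtain ⟨u, huS⟩ := u
  have hu' : u ∈ (Un σ).map (pr σ) := hu
  obtain ⟨v, hv, rfl⟩ := hu'
  obtain ⟨a, b, hab, rfl⟩ := exists_un hv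
  set t0 : F := ((t : Fˣ) : F) with ht0
  have hst : σ t0 = t0 := fix_of_ker hq hs t
  have ht1 : t0 ≠ 1 := by
    intro h1
    exact ht (Subtype.ext (Units.ext h1))
  have h1s : (1 : F) * σ 1 = 1 := by rw [map_one, mul_one]
  have hrel := conj_rel (t := t0) h1s hab
  have h3 : dg t0 1 (Units.ne_zero _) h1s * un a b hab * (dg t0 1 (Units.ne_zero _) h1s)⁻¹ =
      un (t0 * σ 1 * a) (t0 * σ t0 * b) hrel := dg_conj_un t0 1 (Units.ne_zero _) h1s a b hab hrel
  have h4 : pr σ (dg t0 1 (Units.ne_zero _) h1s) * pr σ (un a b hab) =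
      pr σ (un a b hab) * pr σ (dg t0 1 (Units.ne_zero _) h1s) := congrArg (fun z : S σ => (z : PG σ)) h
  have h5 : pr σ (un (t0 * σ 1 * a) (t0 * σ t0 * b) hrel) = pr σ (un a b hab) := by
    rw [← h3, map_mul, map_mul, map_inv, h4, mul_inv_cancel_right]
  have h6 : un (t0 * σ 1 * a) (t0 * σ t0 * b) hrel = un a b hab := by
    have h7 : (un (t0 * σ 1 * a) (t0 * σ t0 * b) hrel)⁻¹ * un a b hab ∈ Sc σ := (QuotientGroup.eq).1 h5
    exact inv_mul_eq_one.1 ((split' σ).disj _ ((Un σ).mul_mem ((Un σ).inv_mem (un_mem _ _ _)) (un_mem _ _ _))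
      (Sc_le h7))
  have h7 := congrArg (fun g => mat σ g 0 1) h6
  have h8 := congrArg (fun g => mat σ g 0 2) h6
  simp only [mat_un] at h7 h8
  have h9 : t0 * σ 1 * a = a := by simpa using h7
  have h10 : t0 * σ t0 * b = b := by simpa using h8
  rw [map_one, mul_one] at h9
  rw [hst] at h10
  have ha : a = 0 := by
    have h11 : (t0 - 1) * a = 0 := by linear_combination h9
    exact (mul_eq_zero.1 h11).resolve_left (sub_ne_zero.2 ht1)
  have hb : b = 0 := by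
    have h11 : ((t0 - 1) * (t0 - 1)) * b = 0 := by linear_combination h10 + (1 - t0) * b * h2
    exact (mul_eq_zero.1 h11).resolve_left (mul_ne_zero (sub_ne_zero.2 ht1) (sub_ne_zero.2 ht1))
  apply Subtype.ext
  show pr σ (un a b hab) = 1
  have h12 : un a b hab = (1 : GUJ σ) := by
    apply mat_inj
    rw [mat_un, mat_one, ha, hb]
    ext i j
    fin_cases i <;> fin_cases j <;> simp
  rw [h12, map_one]

/-- the transvections -/
theorem un0_rel {s : F} (hs : σ s = s) (h2 : (2 : F) = 0) : s + σ s + 0 * σ 0 = 0 := by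
  rw [hs]
  linear_combination s * h2

/-- the element without fixed points -/
def xel {s : F} (hs : σ s = s) (h2 : (2 : F) = 0) : S σ :=
  (spS σ).w * ⟨pr σ (un 0 s (un0_rel hs h2)), U_le_S ⟨_, un_mem _ _ _, rfl⟩⟩

theorem w_sq : (spS σ).w * (spS σ).w = 1 := by
  apply Subtype.ext
  show pr σ (wel' σ) * pr σ (wel' σ) = 1
  rw [← map_mul]
  have h : wel' σ * wel' σ = (1 : GUJ σ) := by
    apply mat_inj
    rw [mat_mul, mat_wel', mat_one]
    ext i j
    fin_cases i <;> fin_cases j <;> simp [Matrix.mul_apply, Fin.sum_univ_three]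
  rw [h, map_one]

theorem un_sq {s : F} (hs : σ s = s) (h2 : (2 : F) = 0) :
    (⟨pr σ (un 0 s (un0_rel hs h2)), U_le_S ⟨_, un_mem _ _ _, rfl⟩⟩ : S σ) *
      ⟨pr σ (un 0 s (un0_rel hs h2)), U_le_S ⟨_, un_mem _ _ _, rfl⟩⟩ = 1 := by
  apply Subtype.ext
  show pr σ _ * pr σ _ = 1
  rw [← map_mul]
  have h : un 0 s (un0_rel hs h2) * un 0 s (un0_rel hs h2) = (1 : GUJ σ) := by
    apply mat_inj
    rw [mat_mul, mat_un, mat_one]
    ext i j
    fin_cases i <;> fin_cases j <;> simp [Matrix.mul_apply, Fin.sum_univ_three]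
    linear_combination s * h2
  rw [h, map_one]

theorem real_of_mul {G : Type*} [Group G] {a b : G} (ha : a * a = 1) (hb : b * b = 1) :
    IsConj (a * b) (a * b)⁻¹ := by
  rw [isConj_iff]
  refine ⟨a, ?_⟩
  have h1 : a⁻¹ = a := inv_eq_of_mul_eq_one_left ha
  have h2 : b⁻¹ = b := inv_eq_of_mul_eq_one_left hb
  rw [_root_.mul_inv_rev, h1, h2]
  calc a * (a * b) * a = (a * a) * b * a := by group
    _ = b * a := by rw [ha, one_mul]

theorem xel_real {s : F} (hs : σ s = s) (h2 : (2 : F) = 0) : IsConj (xel hs h2) (xel (σ := σ) hs h2)⁻¹ :=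
  real_of_mul w_sq (un_sq hs h2)

/-- **no fixed points** -/
theorem xel_fix {s : F} (hs : σ s = s) (h2 : (2 : F) = 0) (hirr : ∀ l : F, σ l = l → l ≠ 0 → s ≠ l + l⁻¹)
    (g : S σ) : g⁻¹ * xel hs h2 * g ∉ (spS σ).B := by
  intro h
  obtain ⟨γ, -, hγ⟩ := g.2
  have h' : (pr σ γ)⁻¹ * (pr σ (wel' σ) * pr σ (un 0 s (un0_rel hs h2))) * pr σ γ ∈ (Bo σ).map (pr σ) := by
    rw [hγ]
    exact h
  obtain ⟨β, hβ, h1⟩ := h'
  rw [← map_mul, ← map_inv, ← map_mul, ← map_mul] at h1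
  have h3 : β⁻¹ * (γ⁻¹ * (wel' σ * un 0 s (un0_rel hs h2)) * γ) ∈ Sc σ := (QuotientGroup.eq).1 h1
  have h4 : γ⁻¹ * (wel' σ * un 0 s (un0_rel hs h2)) * γ ∈ Bo σ := by
    have h5 : β⁻¹ * (γ⁻¹ * (wel' σ * un 0 s (un0_rel hs h2)) * γ) ∈ Bo σ := (Sc_le h3).1
    have h6 := (Bo σ).mul_mem hβ h5
    rwa [mul_inv_cancel_left] at h6
  obtain ⟨B, hB⟩ : ∃ B, B = γ⁻¹ * (wel' σ * un 0 s (un0_rel hs h2)) * γ := ⟨_, rfl⟩
  rw [← hB] at h4
  have h5 : wel' σ * un 0 s (un0_rel hs h2) * γ = γ * B := by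
    rw [hB]; group
  obtain ⟨μ, hμ⟩ : ∃ μ, μ = mat σ B 0 0 := ⟨_, rfl⟩
  have hB10 : mat σ B 1 0 = 0 := h4.1
  have hB20 : mat σ B 2 0 = 0 := h4.2.1
  have hW : mat σ (wel' σ * un 0 s (un0_rel hs h2)) = !![0, 0, 1; 0, -1, 0; 1, 0, s] := by
    rw [mat_mul, mat_wel', mat_un]
    ext i j
    fin_cases i <;> fin_cases j <;> simp [Matrix.mul_apply, Fin.sum_univ_three]
  have e : ∀ i, mat σ (wel' σ * un 0 s (un0_rel hs h2)) i 0 * mat σ γ 0 0 +
      mat σ (wel' σ * un 0 s (un0_rel hs h2)) i 1 * mat σ γ 1 0 +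
      mat σ (wel' σ * un 0 s (un0_rel hs h2)) i 2 * mat σ γ 2 0 = mat σ γ i 0 * μ := by
    intro i
    have h6 := congrArg (fun z => mat σ z i 0) h5
    simp only [mul_entry (wel' σ * un 0 s (un0_rel hs h2)) γ, mul_entry γ B] at h6
    rw [h6, hB10, hB20, hμ]
    ring
  have e0 := e 0
  have e1 := e 1
  have e2 := e 2
  rw [hW] at e0 e1 e2
  obtain ⟨v0, hv0⟩ : ∃ v0, v0 = mat σ γ 0 0 := ⟨_, rfl⟩
  obtain ⟨v1, hv1⟩ : ∃ v1, v1 = mat σ γ 1 0 := ⟨_, rfl⟩
  obtain ⟨v2, hv2⟩ : ∃ v2, v2 = mat σ γ 2 0 := ⟨_, rfl⟩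
  have eiso := entry γ 0 0
  rw [show Jm F 0 0 = 0 from rfl] at eiso
  rw [← hv0, ← hv1, ← hv2] at eiso e0 e1 e2
  have e0' : v2 = v0 * μ := by simpa using e0
  have e1' : -v1 = v1 * μ := by simpa using e1
  have e2' : v0 + s * v2 = v2 * μ := by simpa using e2
  have hne : ¬ (v0 = 0 ∧ v1 = 0 ∧ v2 = 0) := by
    rintro ⟨k0, k1, k2⟩
    have h6 := entry γ 0 2
    rw [← hv0, ← hv1, ← hv2, k0, k1, k2] at h6
    have h7 : Jm F 0 2 = 1 := rfl
    rw [h7] at h6
    simp at h6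
  by_cases k0 : v0 = 0
  · have k2 : v2 = 0 := by rw [e0', k0, zero_mul]
    have k1 : v1 = 0 := by
      rw [k0, k2] at eiso
      have k3 : v1 * σ v1 = 0 := by linear_combination eiso
      rcases mul_eq_zero.1 k3 with h6 | h6
      · exact h6
      · exact (map_eq_zero σ).1 h6
    exact hne ⟨k0, k1, k2⟩
  · have hq : 1 + s * μ = μ * μ := by
      have h6 : v0 * (1 + s * μ) = v0 * (μ * μ) := by
        rw [e0'] at e2'
        linear_combination e2'
      exact mul_left_cancel₀ k0 h6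
    have hμ0 : μ ≠ 0 := by
      rintro h6
      rw [h6] at hq
      simp at hq
    have hsμ : s = μ + μ⁻¹ := by
      have h6 : s * μ = (μ + μ⁻¹) * μ := by
        rw [add_mul, inv_mul_cancel₀ hμ0]
        linear_combination hq - h2
      exact mul_right_cancel₀ hμ0 h6
    have hσμ : σ μ ≠ μ := fun h6 => hirr μ h6 hμ0 hsμ
    have hμ1 : μ ≠ 1 := by
      rintro rfl
      exact hσμ (map_one σ)
    have k1 : v1 = 0 := by
      have h6 : v1 * (μ - 1) = 0 := by linear_combination -e1' - v1 * h2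
      exact (mul_eq_zero.1 h6).resolve_right (sub_ne_zero.2 hμ1)
    rw [k1, e0', zero_mul, add_zero, map_mul] at eiso
    have h6 : v0 * σ v0 * (σ μ - μ) = 0 := by linear_combination eiso - v0 * μ * σ v0 * h2
    have h7 : v0 * σ v0 ≠ 0 := mul_ne_zero k0 ((map_ne_zero σ).2 k0)
    exact hσμ (sub_eq_zero.1 ((mul_eq_zero.1 h6).resolve_left h7))

end general

section finite

variable {F : Type*} [Field F] [Fintype F] {q : ℕ} {σ : F →+* F} [hσ : Fact (∀ x, σ (σ x) = x)]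

/-- there is a parameter -/
theorem exists_s (hF : Fintype.card F = q ^ 2) (hs : ∀ x, σ x = x ^ q) :
    ∃ s : F, σ s = s ∧ ∀ l : F, σ l = l → l ≠ 0 → s ≠ l + l⁻¹ := by
  by_contra hcon
  push Not at hcon
  have hK : ∀ s : {x : F // σ x = x}, ∃ l : {x : F // σ x = x}, (l : F) ≠ 0 ∧ (s : F) = l + (l : F)⁻¹ := by
    intro s
    obtain ⟨l, h1, h3, h4⟩ := hcon s s.2
    exact ⟨⟨l, h1⟩, h3, h4⟩
  choose f hf0 hf using hK
  have hinj : Function.Injective f := by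
    intro s t h
    apply Subtype.ext
    rw [hf s, hf t, h]
  have hsur := Finite.surjective_of_injective hinj
  obtain ⟨s, hs0⟩ := hsur ⟨0, map_zero σ⟩
  exact hf0 s (by rw [hs0])

theorem card_ker' (hF : Fintype.card F = q ^ 2) : Nat.card (powMonoidHom (q - 1) : Fˣ →* Fˣ).ker = q - 1 := by
  rw [IsCyclic.card_powMonoidHom_ker, card_units_eq hF]
  exact Nat.gcd_eq_right (Dvd.intro_left _ rfl)

theorem two_eq_zero (hF : Fintype.card F = q ^ 2) (hq : Even q) : (2 : F) = 0 := by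
  have h1 : Fintype.card F % 2 = 0 := by
    rw [hF]
    exact Nat.even_iff.1 (hq.pow_of_ne_zero two_ne_zero)
  have h2 : ringChar F = 2 := FiniteField.even_card_iff_char_two.2 h1
  have h3 := ringChar.Nat.cast_ringChar (R := F)
  rw [h2] at h3
  exact_mod_cast h3

theorem odd_TS (hF : Fintype.card F = q ^ 2) (hs : ∀ x, σ x = x ^ q) (hq : Even q) (hq2 : 2 ≤ q) :
    Odd (Nat.card (spS σ).T) := by
  refine Odd.of_dvd_nat ?_ (card_TS (σ := σ) hF hs)
  have h1 : Even (q ^ 2) := hq.pow_of_ne_zero two_ne_zero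
  have h2 : 1 ≤ q ^ 2 := Nat.one_le_pow _ _ (by omega)
  rw [Nat.odd_sub h2]
  exact ⟨fun h => absurd h (Nat.not_odd_iff_even.2 h1), fun h => absurd odd_one (Nat.not_odd_iff_even.2 h)⟩

theorem even_US (hF : Fintype.card F = q ^ 2) (hs : ∀ x, σ x = x ^ q) (hq : Even q) :
    Even (Nat.card (spS σ).U) := by
  rw [card_US hF hs]
  exact hq.pow_of_ne_zero three_ne_zero

/-- **A real character of degree `q³ + 1`.** -/
theorem exists_ps_u3 (hF : Fintype.card F = q ^ 2) (hs : ∀ x, σ x = x ^ q) (hq : Even q) (hq4 : 4 ≤ q) :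
    ∃ χ : IrrCharacter (S σ), (∀ g, ((χ : S σ → ℂ) g).im = 0) ∧ charDegree (χ : S σ → ℂ) = q ^ 3 + 1 := by
  classical
  have : Finite (PG σ) := inferInstance
  have := Fintype.ofFinite (S σ)
  have h2 := two_eq_zero hF hq
  have h1q : 1 ≤ q := by omega
  have hnt : Nontrivial (powMonoidHom (q - 1) : Fˣ →* Fˣ).ker := by
    rw [← Finite.one_lt_card_iff_nontrivial, card_ker' hF]
    omega
  obtain ⟨t, ht⟩ := exists_ne (1 : (powMonoidHom (q - 1) : Fˣ →* Fˣ).ker)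
  have h3 := exists_ps_real (spS σ) (odd_TS hF hs hq (by omega)) (even_US hF hs hq) (del_mem h1q hs t)
    (fun u hu h => del_free h1q hs h2 t ht u hu h)
    (fun h => ht (del_inj h1q hs (by rw [h, map_one])))
    (isConj_iff.2 ⟨(spS σ).w⁻¹, by rw [inv_inv]; exact del_conj h1q hs t⟩)
  rwa [card_US hF hs] at h3

/-- **A real cuspidal character of odd degree divisible by `q - 1`.** -/
theorem exists_cusp_u3 (hF : Fintype.card F = q ^ 2) (hs : ∀ x, σ x = x ^ q) (hq : Even q) (hq2 : 2 ≤ q) :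
    ∃ χ : IrrCharacter (S σ), (∀ g, ((χ : S σ → ℂ) g).im = 0) ∧ Odd (charDegree (χ : S σ → ℂ)) ∧
      (χ : S σ → ℂ) ≠ 1 ∧ (q - 1) ∣ charDegree (χ : S σ → ℂ) := by
  classical
  have : Finite (PG σ) := inferInstance
  have := Fintype.ofFinite (S σ)
  have h2 := two_eq_zero hF hq
  have h1q : 1 ≤ q := by omega
  obtain ⟨s, hss, hirr⟩ := exists_s (σ := σ) hF hs
  obtain ⟨χ, h3, h4, h5, h6⟩ := exists_cusp_real (spS σ) (odd_TS hF hs hq hq2) (even_US hF hs hq)
    (xel_fix hss h2 hirr) (xel_real hss h2) (del (σ := σ) h1q hs).range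
    (by rintro _ ⟨t, rfl⟩; exact del_mem h1q hs t)
    (by
      rintro _ ⟨t, rfl⟩ ht u hu h
      exact del_free h1q hs h2 t (fun h3 => ht (by rw [h3, map_one])) u hu h)
  refine ⟨χ, h3, h4, h5, ?_⟩
  rwa [← Nat.card_congr (MonoidHom.ofInjective (del_inj (σ := σ) h1q hs)).toEquiv, card_ker' hF] at h6

end finite

end Cfsg.Agent.H579.RR
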