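import Cfsg.Agent.H579.RR.U3Real
import Cfsg.Agent.H149.PGUGoal
import Cfsg.Agent.H740.FiveBase
import Cfsg.Agent.S0283

/-!
# The groups with socle `PSU(3,q)`, `q` even (S4554, helper579)
-/

set_option autoImplicit false
set_option linter.unusedSectionVars false

namespace Cfsg.Agent.H579.RR

open Cfsg Cfsg.Agent.Characters Cfsg.Agent.H619.R4 Cfsg.Agent.H686.CharKit
open Cfsg.Agent.H664.R1 Cfsg.Agent.H664.R1.U3
open scoped ComplexConjugate

universe u

theorem odd_not_dvd {a k : ℕ} (ha : Odd a) (h1 : a ≠ 1) (h : a ∣ 2 ^ k) : False := by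
  have h2 : Nat.Coprime a (2 ^ k) := Nat.Coprime.pow_right _ (Nat.Coprime.symm (Nat.coprime_two_left.2 ha))
  exact h1 (Nat.eq_one_of_dvd_coprimes h2 (dvd_refl _) h)

theorem r3_psu3 {G : Type u} [Group G] [Finite G] (M : Subgroup G) [hM : M.Normal]
    (hc : Subgroup.centralizer (M : Set G) = ⊥) {F : Type} [Field F] [Fintype F] {q f : ℕ}
    (hF : Fintype.card F = q ^ 2) (hq : q = 2 ^ f) (hf : 2 ≤ f) (e : M ≃* PSU 3 F q) : R3 G M := by
  classical
  have : Fact (Nat.Prime 2) := ⟨Nat.prime_two⟩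
  have hq4 : 4 ≤ q := by
    rw [hq]
    calc 4 = 2 ^ 2 := by norm_num
      _ ≤ 2 ^ f := Nat.pow_le_pow_right (by norm_num) hf
  have hqe : Even q := by
    rw [hq]
    exact Nat.even_pow.2 ⟨even_two, by omega⟩
  have hidx : M.index ∣ Nat.gcd 3 (q + 1) * (2 * f) := by
    have h1 := H740.FiveBase.index_dvd_out M hM hc
    rw [H55.OutGen.card_out_congr e, H149.PGU.card_out_psu (p := 2) (by omega : 1 ≤ f) hq hF le_rfl
      (by rintro ⟨-, h⟩; omega)] at h1
    exact h1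
  have hM0 : 0 < M.index := Nat.pos_of_ne_zero Subgroup.index_ne_zero_of_finite
  -- simple
  have hs0 : IsSimpleGroup (PSU 3 F q) := Cfsg.Agent.S0283.result hF 3 le_rfl (by rintro ⟨-, h⟩; omega)
  have hs : IsSimpleGroup M := (MulEquiv.isSimpleGroup_congr e).2 hs0
  -- the model
  obtain ⟨σ, hσ, hsσ, ⟨e'⟩⟩ := exists_iso hF
  let E : M ≃* S σ := e.trans e'
  have : Finite (PG σ) := inferInstance
  have h2F := two_eq_zero hF hqe
  have h2M : 2 ∣ Nat.card M := by
    rw [Nat.card_congr E.toEquiv]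
    have h1 : Even (Nat.card (spS σ).U) := even_US hF hsσ hqe
    exact h1.two_dvd.trans (Subgroup.card_subgroup_dvd_card _)
  -- perfect
  have hperf : commutator M = ⊤ := by
    have h1q : 1 ≤ q := by omega
    have hnt : Nontrivial (powMonoidHom (q - 1) : Fˣ →* Fˣ).ker := by
      rw [← Finite.one_lt_card_iff_nontrivial, card_ker' hF]
      omega
    obtain ⟨t, ht⟩ := exists_ne (1 : (powMonoidHom (q - 1) : Fˣ →* Fˣ).ker)
    have hntU : Nontrivial (spS σ).U := by
      rw [← Finite.one_lt_card_iff_nontrivial, card_US hF hsσ]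
      exact Nat.one_lt_pow three_ne_zero (by omega)
    obtain ⟨u, hu⟩ := exists_ne (1 : (spS σ).U)
    refine perfect_of_simple (a := E.symm (del (σ := σ) h1q hsσ t)) (b := E.symm (u : S σ)) fun h => ?_
    rw [← map_mul, ← map_mul] at h
    exact hu (Subtype.ext (del_free h1q hsσ h2F t ht u u.2 (E.symm.injective h)))
  -- the Steinberg character
  have hSt := rd_lie M Nat.prime_two (by
    unfold IsLieTypeChar
    refine Or.inr (Or.inr (Or.inl ⟨F, inferInstance, inferInstance, ?_, 3, q, hF, le_rfl, ?_, ⟨e⟩⟩))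
    · exact CharTwo.of_one_ne_zero_of_two_eq_zero one_ne_zero h2F
    · rintro ⟨-, h⟩
      omega) h2M
  -- the other two characters
  obtain ⟨χ1, hr1, hd1⟩ := exists_ps_u3 (σ := σ) hF hsσ hqe hq4
  obtain ⟨χ2, hr2, ho2, hn2, hd2⟩ := exists_cusp_u3 (σ := σ) hF hsσ hqe (by omega)
  have hdeg : ∀ χ : IrrCharacter (S σ), charDegree ((χ : S σ → ℂ) ∘ E) = charDegree (χ : S σ → ℂ) := by
    intro χ
    unfold charDegree
    simp
  have hirr : ∀ χ : IrrCharacter (S σ), IsIrrCharacter M ((χ : S σ → ℂ) ∘ E) := fun χ =>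
    Core.isIrr_comp E.toMonoidHom E.surjective χ.2
  have ho1 : Odd (charDegree (χ1 : S σ → ℂ)) := by
    rw [hd1]
    exact (hqe.pow_of_ne_zero three_ne_zero).add_one
  have hne : ∀ χ : IrrCharacter (S σ), (χ : S σ → ℂ) ≠ 1 → (χ : S σ → ℂ) ∘ E ≠ 1 := by
    intro χ h h1
    apply h
    funext s
    have h3 := congrFun h1 (E.symm s)
    have h4 : (χ : S σ → ℂ) (E (E.symm s)) = 1 := h3
    rw [E.apply_symm_apply] at h4
    exact h4
  have hn1 : (χ1 : S σ → ℂ) ≠ 1 := by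
    intro h
    have h3 : charDegree (χ1 : S σ → ℂ) = 1 := by
      have h4 := Cfsg.Agent.Blocks.Basic.irr_one_eq_charDegree χ1.2
      rw [h, Pi.one_apply] at h4
      rw [h]
      exact_mod_cast h4.symm
    rw [hd1] at h3
    have h5 : 1 ≤ q ^ 3 := Nat.one_le_pow _ _ (by omega)
    omega
  obtain ⟨c1, hc1, hc1i, hR1⟩ := rd_odd_deg M hperf (hirr χ1) (fun n => hr1 _) (by rw [hdeg]; exact ho1) (hne χ1 hn1)
  obtain ⟨c2, hc2, hc2i, hR2⟩ := rd_odd_deg M hperf (hirr χ2) (fun n => hr2 _) (by rw [hdeg]; exact ho2) (hne χ2 hn2)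
  rw [hdeg] at hR1 hR2
  have hne1 : ∀ χ : IrrCharacter (S σ), (χ : S σ → ℂ) ≠ 1 → charDegree (χ : S σ → ℂ) ≠ 1 := by
    intro χ h h1
    apply hne χ h
    exact eq_one_of_perfect hperf (hirr χ) (by rw [hdeg]; exact h1)
  refine ⟨_, _, _, ?_, ?_, ?_, hSt, hR1, hR2⟩
  · intro h
    exact odd_not_dvd ho1 (hne1 χ1 hn1) ⟨c1, h⟩
  · intro h
    exact odd_not_dvd ho2 (hne1 χ2 hn2) ⟨c2, h⟩
  · intro h
    obtain ⟨t, ht⟩ : ∃ t, q = t + 1 := ⟨q - 1, by omega⟩
    have h1 : q - 1 = t := by omega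
    rw [h1] at hd2
    have hto : Odd t := by
      rw [← Nat.not_even_iff_odd]
      intro h3
      have h4 := h3.add_one
      rw [← ht] at h4
      exact Nat.not_even_iff_odd.2 h4 hqe
    have h3 : t ∣ (q ^ 3 + 1) * c1 := by
      rw [← hd1, h]
      exact hd2.mul_right _
    have h4 : (q ^ 3 + 1) * c1 = t * ((t ^ 2 + 3 * t + 3) * c1) + 2 * c1 := by rw [ht]; ring
    rw [h4] at h3
    have h5 : t ∣ 2 * c1 := (Nat.dvd_add_right (dvd_mul_right _ _)).1 h3
    have h6 : Nat.Coprime t 2 := Nat.Coprime.symm (Nat.coprime_two_left.2 hto)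
    have h7 : t ∣ c1 := h6.dvd_of_dvd_mul_left h5
    have h8 : t ∣ Nat.gcd 3 (q + 1) * (2 * f) := h7.trans (hc1i.trans hidx)
    have h9 : Nat.Coprime t (Nat.gcd 3 (q + 1)) := by
      refine Nat.Coprime.coprime_dvd_right (Nat.gcd_dvd_right 3 (q + 1)) ?_
      rw [ht, show t + 1 + 1 = t + 2 by ring, Nat.coprime_self_add_right]
      exact h6
    have h10 : t ∣ f := h6.dvd_of_dvd_mul_left (h9.dvd_of_dvd_mul_left h8)
    have h11 := Nat.le_of_dvd (by omega) h10
    have h12 : f + 1 < 2 ^ f := by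
      obtain ⟨g, rfl⟩ := Nat.exists_eq_add_of_le hf
      clear h11 h10 h8 hf hidx hq
      induction g with
      | zero => norm_num
      | succ g ih =>
        rw [show 2 + (g + 1) = (2 + g) + 1 by ring, pow_succ]
        omega
    omega

end Cfsg.Agent.H579.RR

namespace Cfsg.Agent.H579.R4

open Cfsg Cfsg.Agent.H619.R4

universe u

/-- **Three real degrees: `PSU(3,q)`, `q` even.** -/
theorem row_psu3_two {S : Type u} [Group S] {F : Type} [Field F] [Fintype F] {q : ℕ}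
    (hF : Fintype.card F = q ^ 2) (hq2 : q ≠ 2) (hqe : Even q) (e : Nonempty (S ≃* Cfsg.PSU 3 F q)) : Row S := by
  intro G _ _ N _ ⟨g⟩ hC _
  obtain ⟨e⟩ := e
  obtain ⟨p, f, hp, hf1, hq⟩ := H149.PGU.exists_pf hF
  have hp2 : p = 2 := by
    rw [hq] at hqe
    have h1 : Even p := (Nat.even_pow.1 hqe).1
    exact (Nat.Prime.even_iff hp).1 h1
  subst hp2
  have hf : 2 ≤ f := by
    by_contra h
    have h1 : f = 1 := by omega
    rw [h1, pow_one] at hq
    exact hq2 hq
  exact RR.r3_psu3 N hC hF hq hf (g.symm.trans e)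

end Cfsg.Agent.H579.R4
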